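import Groth.Agent.CohqA.BaseChangeMod
import Groth.Agent.Pi1C.IndEtaleIC

/-!
# Base changes of a module along an ind-étale algebra, as a colimit over étale algebras
-/

set_option autoImplicit false
universe u

open TensorProduct

namespace K75.AlgSide

open Groth.Agent.CohqA.BaseChangeMod Groth.Agent.Pi1C.IndEtaleWE

section

variable {A B C : Type u} [CommRing A] [CommRing B] [CommRing C] {M N P : Type u} [AddCommGroup M]
  [Module A M] [AddCommGroup N] [Module B N] [AddCommGroup P] [Module C P]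

theorem semilinear_ext {φ : A →+* B} {f : M →+ N} (h : IsBC φ f) (χ : B →+* C) {g g' : N →+ P}
    (hg : ∀ b y, g (b • y) = χ b • g y) (hg' : ∀ b y, g' (b • y) = χ b • g' y)
    (e : ∀ x, g (f x) = g' (f x)) : g = g' := by
  let _ : Module B P := Module.compHom P χ
  have h2 := h.hom_ext (Q := P) (g₁ := { g with map_smul' := hg }) (g₂ := { g' with map_smul' := hg' }) e
  ext y
  exact LinearMap.congr_fun h2 y

theorem exists_semilinear {φ : A →+* B} {f : M →+ N} (h : IsBC φ f) (χ : B →+* C) (g : M →+ P)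
    (hg : ∀ a x, g (a • x) = χ (φ a) • g x) :
    ∃ g' : N →+ P, (∀ b y, g' (b • y) = χ b • g' y) ∧ ∀ x, g' (f x) = g x := by
  let _ : Module B P := Module.compHom P χ
  obtain ⟨g', hg', -⟩ := h.lift P g hg
  exact ⟨g'.toAddMonoidHom, g'.map_smul, hg'⟩

end

section

variable {A E S : Type u} [CommRing A] [CommRing E] [CommRing S] [Algebra A E] [Algebra A S]
  {M N P : Type u} [AddCommGroup M] [Module A M] [AddCommGroup N] [Module E N] [AddCommGroup P] [Module S P]

/-- The map `E ⊗ M → P` of a semilinear `M → P`. -/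
theorem exists_mu {S' P' : Type u} [CommRing S'] [AddCommGroup P'] [Module S' P'] (β : E →+* S')
    {g : M →+ P'} (hg : ∀ a x, g (a • x) = β (algebraMap A E a) • g x) :
    ∃ μ : E ⊗[A] M →+ P', ∀ e m, μ (e ⊗ₜ m) = β e • g m := by
  let _ : Module E P' := Module.compHom P' β
  let _ : Module A P' := Module.compHom P' (algebraMap A E)
  have _ : IsScalarTower A E P' := ⟨fun a e p => by
    change (a • e) • p = algebraMap A E a • e • p
    rw [Algebra.smul_def, mul_smul]⟩
  let g₀ : M →ₗ[A] P' := { g with map_smul' := hg }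
  refine ⟨(g₀.liftBaseChange E).toAddMonoidHom, fun e m => ?_⟩
  exact LinearMap.liftBaseChange_tmul (A := E) (l := g₀) (x := e) (y := m)

theorem exists_mu_equiv {f : M →+ N} (hf : IsBC (algebraMap A E) f) :
    ∃ μ : E ⊗[A] M ≃+ N, ∀ e m, μ (e ⊗ₜ m) = e • f m := by
  let _ : Module A N := Module.compHom N (algebraMap A E)
  have _ : IsScalarTower A E N := ⟨fun a e p => by
    change (a • e) • p = algebraMap A E a • e • p
    rw [Algebra.smul_def, mul_smul]⟩
  let f₀ : M →ₗ[A] N := { f with map_smul' := hf.map_smul }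
  have h : IsBaseChange E f₀ := (isBC_iff_isBaseChange f₀).1 hf
  refine ⟨h.equiv.toAddEquiv, fun e m => ?_⟩
  exact h.equiv_tmul e m

theorem addHom_ext_tmul {Q : Type*} [AddCommGroup Q] {a b : E ⊗[A] M →+ Q}
    (h : ∀ e m, a (e ⊗ₜ m) = b (e ⊗ₜ m)) (z : E ⊗[A] M) : a z = b z := by
  induction z using TensorProduct.induction_on with
  | zero => rw [map_zero, map_zero]
  | tmul e m => exact h e m
  | add x y hx hy => rw [map_add, map_add, hx, hy]

/-- Vanishing at a finite stage. -/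
theorem zero_factor (h : Lazard A S) [Algebra.FinitePresentation A E] (χ : E →ₐ[A] S) {f : M →+ N}
    (hf : IsBC (algebraMap A E) f) {g : M →+ P} (hg : IsBC (algebraMap A S) g) (d : N →+ P)
    (hd : ∀ e x, d (e • x) = χ e • d x) (hdf : ∀ m, d (f m) = g m) (y : N) (hy : d y = 0) :
    ∃ (E' : Type u) (_ : CommRing E') (_ : Algebra A E') (_ : Algebra.Etale A E') (ψ : E →ₐ[A] E')
      (χ' : E' →ₐ[A] S), χ'.comp ψ = χ ∧ ∀ (N' : Type u) [AddCommGroup N'] (B' : Type u) [CommRing B']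
        [Module B' N'] (f' : M →+ N') (β : E' →+* B')
        (_ : ∀ a m, f' (a • m) = β (algebraMap A E' a) • f' m) (k : N →+ N')
        (_ : ∀ e x, k (e • x) = β (ψ e) • k x) (_ : ∀ m, k (f m) = f' m), k y = 0 := by
  obtain ⟨μ, hμ⟩ := exists_mu_equiv hf
  obtain ⟨z, rfl⟩ := μ.surjective y
  obtain ⟨ν, hν⟩ := exists_mu_equiv hg
  have h1 : TensorProduct.map χ.toLinearMap (LinearMap.id : M →ₗ[A] M) z = 0 := by
    apply ν.injective
    rw [map_zero, ← hy]
    refine addHom_ext_tmul (a := ν.toAddMonoidHom.comp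
      (TensorProduct.map χ.toLinearMap (LinearMap.id : M →ₗ[A] M)).toAddMonoidHom)
      (b := d.comp μ.toAddMonoidHom) (fun e m => ?_) z
    change ν (χ e ⊗ₜ m) = d (μ (e ⊗ₜ m))
    rw [hν, hμ, hd, hdf]
  obtain ⟨E', _, _, _, ψ, χ', hψ, hz⟩ := Groth.Agent.Pi1C.IndEtaleIC.exists_factor_of_map_eq_zero h χ z h1
  refine ⟨E', inferInstance, inferInstance, inferInstance, ψ, χ', hψ, ?_⟩
  intro N' _ B' _ _ f' β hf' k hk hkf
  obtain ⟨μ', hμ'⟩ := exists_mu β hf'
  have h2 : k (μ z) = μ' (TensorProduct.map ψ.toLinearMap (LinearMap.id : M →ₗ[A] M) z) := by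
    refine addHom_ext_tmul (a := k.comp μ.toAddMonoidHom) (b := μ'.comp
      (TensorProduct.map ψ.toLinearMap (LinearMap.id : M →ₗ[A] M)).toAddMonoidHom) (fun e m => ?_) z
    change k (μ (e ⊗ₜ m)) = μ' (ψ e ⊗ₜ m)
    rw [hμ, hμ', hk, hkf]
  rw [h2, hz, map_zero]

/-- Finitely many elements of an ind-étale algebra come from an étale algebra. -/
theorem exists_etale_of_fin (h : Lazard A S) {n : ℕ} (x : Fin n → S) :
    ∃ (E : Type u) (_ : CommRing E) (_ : Algebra A E) (_ : Algebra.Etale A E) (χ : E →ₐ[A] S)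
      (e : Fin n → E), ∀ i, χ (e i) = x i := by
  obtain ⟨E, h1, h2, h3, χ, e, he, -⟩ := exists_etale_of_aeval h 0 x (map_zero _)
  exact ⟨E, h1, h2, h3, χ, e, he⟩

/-- Every element comes from a finite stage. -/
theorem surj_factor (h : Lazard A S) {g : M →+ P} (hg : IsBC (algebraMap A S) g) (p : P) :
    ∃ (E : Type u) (_ : CommRing E) (_ : Algebra A E) (_ : Algebra.Etale A E) (χ : E →ₐ[A] S)
      (n : ℕ) (e : Fin n → E) (m : Fin n → M), p = ∑ i, χ (e i) • g (m i) := by
  obtain ⟨ν, hν⟩ := exists_mu_equiv hg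
  obtain ⟨z, rfl⟩ := ν.surjective p
  obtain ⟨k, r, b, rfl⟩ : ∃ (k : ℕ) (r : Fin k → S) (b : Fin k → M), z = ∑ i, r i ⊗ₜ[A] b i := by
    obtain ⟨s, hs⟩ := TensorProduct.exists_finset z
    refine ⟨s.card, fun i => (s.equivFin.symm i).1.1, fun i => (s.equivFin.symm i).1.2, ?_⟩
    rw [hs, ← Finset.sum_coe_sort s, ← Equiv.sum_comp s.equivFin.symm]
  obtain ⟨E, h1, h2, h3, χ, e, he⟩ := exists_etale_of_fin h r
  refine ⟨E, h1, h2, h3, χ, k, e, b, ?_⟩
  rw [map_sum]
  exact Finset.sum_congr rfl fun i _ => by rw [hν, he]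

end

end K75.AlgSide
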