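import Mathlib.Topology.Sheaves.SheafCondition.Sites
import Mathlib.Algebra.Category.Grp.Limits
import Mathlib.Algebra.Category.Grp.FilteredColimits

/-!
# Isomorphisms of sheaves on a basis of opens
-/

set_option autoImplicit false
universe u w
open CategoryTheory CategoryTheory.Limits Opposite TopologicalSpace

namespace K75.BasisIso

theorem nonempty_iso_of_basis {X : TopCat.{u}} {ι : Type u} (B : ι → Opens X)
    (hB : Opens.IsBasis (Set.range B)) (F F' : Sheaf (Opens.grothendieckTopology X) AddCommGrpCat.{w})
    (φ : ∀ i, F.obj.obj (op (B i)) ≃+ F'.obj.obj (op (B i)))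
    (hφ : ∀ (i j : ι) (h : B j ≤ B i) (x : F.obj.obj (op (B i))),
      φ j (F.obj.map (homOfLE h).op x) = F'.obj.map (homOfLE h).op (φ i x)) : Nonempty (F ≅ F') := by
  have hd : (inducedFunctor B).IsCoverDense (Opens.grothendieckTopology X) :=
    TopCat.Opens.coverDense_inducedFunctor hB
  let e : (inducedFunctor B).op ⋙ F.obj ≅ (inducedFunctor B).op ⋙ F'.obj :=
    NatIso.ofComponents (fun i => (φ i.unop).toAddCommGrpIso) (by
      intro i j f
      ext x
      exact hφ i.unop j.unop f.unop.hom.le x)
  exact ⟨Functor.IsCoverDense.sheafIso (G := inducedFunctor B) e⟩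

end K75.BasisIso
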