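import Groth.Agent.HensSch.K75.EtLimSec
import Groth.Agent.S0122

/-!
# Restriction of global sections of inverse images of étale sheaves: composition, henselian pairs
-/

set_option autoImplicit false
universe u
open CategoryTheory CategoryTheory.Limits AlgebraicGeometry Opposite

namespace K75.EtSec

open Groth.Agent.Etcore.LocSec Groth.Agent.Etcore.PullCoh Groth.Agent.Etcore.LocEt
open Groth.Agent.Etcore Groth.Agent.Etcore.HpullCalc Groth.Agent.Sga4h.EtLim

variable {X T T' T'' : Scheme.{u}}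

theorem rs_comp (k' : T'' ⟶ T') (k : T' ⟶ T) (k'' : T'' ⟶ T) (hk : k' ≫ k = k'') (a : T ⟶ X) (a' : T' ⟶ X)
    (a'' : T'' ⟶ X) (w : k ≫ a = a') (w' : k' ≫ a' = a'') (w'' : k'' ≫ a = a'') (G : EtCoh.Ab X)
    (s : ST G a) : rs k' a' a'' w' G (rs k a a' w G s) = rs k'' a a'' w'' G s := by
  obtain ⟨ξ, rfl⟩ := (H0 T ((EtCoh.pull a).obj G)).surjective s
  refine (congrArg (rs k' a' a'' w' G) (H0_res k a a' w G ξ).symm).trans ?_
  refine (H0_res k' a' a'' w' G _).symm.trans ?_
  refine Eq.trans ?_ (H0_res k'' a a'' w'' G ξ)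
  exact congrArg (H0 T'' ((EtCoh.pull a'').obj G))
    (Groth.Agent.Sga1.UlaRes.res_comp G k' k k'' hk a a' a'' w w' w'' 0 ξ)

theorem bijective_rs_of_isIso (k : T' ⟶ T) [IsIso k] (a : T ⟶ X) (a' : T' ⟶ X) (w : k ≫ a = a')
    (G : EtCoh.Ab X) : Function.Bijective (rs k a a' w G) := by
  have h := Groth.Agent.Sga1.UlaRes.res_bijective G k a a' w 0
  have e : (rs k a a' w G : ST G a → ST G a') ∘ (H0 T ((EtCoh.pull a).obj G)) =
      (H0 T' ((EtCoh.pull a').obj G)) ∘ (Groth.Agent.Sga1.UlaRes.res G k a a' w 0) :=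
    funext fun x => (H0_res k a a' w G x).symm
  rw [← Function.Bijective.of_comp_iff _ (H0 T ((EtCoh.pull a).obj G)).bijective, e]
  exact (H0 T' ((EtCoh.pull a').obj G)).bijective.comp h

/-- Restriction of global sections to the closed subscheme of a henselian pair. -/
theorem bijective_rs_quotient (S : Type u) [CommRing S] (J : Ideal S) [HenselianRing S J]
    (a : Spec (CommRingCat.of S) ⟶ X) (b : Spec (CommRingCat.of (S ⧸ J)) ⟶ X)
    (w : Spec.map (CommRingCat.ofHom (Ideal.Quotient.mk J)) ≫ a = b) (G : EtCoh.Ab X) :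
    Function.Bijective (rs (Spec.map (CommRingCat.ofHom (Ideal.Quotient.mk J))) a b w G) := by
  let j := Spec.map (CommRingCat.ofHom (Ideal.Quotient.mk J))
  refine (app_bijective (th j a b w G) _).comp ?_
  have h := Groth.Agent.S0122.result S J ((EtCoh.pull a).obj G)
  let t := mk j (EtCoh.top _) (EtCoh.top _) j (top_hom_comp j)
  have ht : t = (EtCore.bcTopIso j).inv := (EtCore.bcTopIsTerminal j).hom_ext _ _
  have hi : IsIso t := by rw [ht]; infer_instance
  have h2 : Function.Bijective (res ((EtCoh.pull j).obj ((EtCoh.pull a).obj G)) t) := by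
    have : IsIso (((EtCoh.pull j).obj ((EtCoh.pull a).obj G)).obj.map t.op) := inferInstance
    exact ConcreteCategory.bijective_of_isIso _
  exact h2.comp h

/-- Restriction of global sections along a closed immersion given by a henselian pair. -/
theorem bijective_rs_of_ker_eq (V : Scheme.{u}) [IsAffine V] (S : Type u) [CommRing S] (J : Ideal S)
    [HenselianRing S J] (κ : CommRingCat.of S ⟶ Γ(V, ⊤)) (hs : Function.Surjective κ.hom)
    (hJ : RingHom.ker κ.hom = J) (k : V ⟶ Spec (CommRingCat.of S))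
    (hk : k = V.isoSpec.hom ≫ Spec.map κ) (a : Spec (CommRingCat.of S) ⟶ X) (b : V ⟶ X)
    (w : k ≫ a = b) (G : EtCoh.Ab X) :
    Function.Bijective (rs k a b w G) := by
  subst hJ
  let e : (S ⧸ RingHom.ker κ.hom) ≃+* Γ(V, ⊤) := RingHom.quotientKerEquivOfSurjective hs
  let ec : CommRingCat.of (S ⧸ RingHom.ker κ.hom) ⟶ Γ(V, ⊤) := CommRingCat.ofHom e.toRingHom
  have hec : IsIso ec := e.toCommRingCatIso.isIso_hom
  have he : CommRingCat.ofHom (Ideal.Quotient.mk (RingHom.ker κ.hom)) ≫ ec = κ := by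
    ext x
    exact RingHom.quotientKerEquivOfSurjective_apply_mk hs x
  let l : V ⟶ Spec (CommRingCat.of (S ⧸ RingHom.ker κ.hom)) := V.isoSpec.hom ≫ Spec.map ec
  let j := Spec.map (CommRingCat.ofHom (Ideal.Quotient.mk (RingHom.ker κ.hom)))
  have hl : l ≫ j = k := by
    rw [hk, Category.assoc, ← Spec.map_comp, he]
  have h1 := bijective_rs_quotient S (RingHom.ker κ.hom) a (j ≫ a) rfl G
  have hw : l ≫ j ≫ a = b := by rw [← Category.assoc, hl, w]
  have h2 := bijective_rs_of_isIso l (j ≫ a) b hw G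
  have h3 : (rs k a b w G : ST G a → ST G b) = (rs l (j ≫ a) b hw G) ∘ (rs j a (j ≫ a) rfl G) :=
    funext fun x => (rs_comp l j k hl a (j ≫ a) b rfl hw w G x).symm
  rw [h3]
  exact h2.comp h1

end K75.EtSec
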