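import Groth.Agent.HensSch.K75.EtSec2
import Groth.Agent.Sga4h.EtLim
import Groth.Agent.Sga4h.ResLim817

/-!
# Sections of inverse images of étale sheaves along limits of étale maps

For `h : X' ⟶ X` a directed limit of étale affine `X`-schemes, the global sections of `h⁻¹ G` are the colimit of
the sections of `G` over the étale `B ⟶ X` with an `X`-morphism `X' ⟶ B`.
-/

set_option autoImplicit false
universe u
open CategoryTheory CategoryTheory.Limits AlgebraicGeometry Opposite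

namespace K75.EtSec

open Groth.Agent.Etcore.LocSec Groth.Agent.Etcore.PullCoh Groth.Agent.Etcore.LocEt
open Groth.Agent.Etcore Groth.Agent.Etcore.HpullCalc Groth.Agent.Sga4h.EtLim

variable {X T T' : Scheme.{u}}

open Groth.Agent.Sga1.UlaRes in
theorem H0_res (k : T' ⟶ T) (a : T ⟶ X) (a' : T' ⟶ X) (w : k ≫ a = a') (G : EtCoh.Ab X)
    (x : HT G a 0) :
    H0 T' ((EtCoh.pull a').obj G) (Groth.Agent.Sga1.UlaRes.res G k a a' w 0 x) =
      rs k a a' w G (H0 T ((EtCoh.pull a).obj G) x) :=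
  H0_hpVia k a a' w G x

section

variable {ι : Type u} [PartialOrder ι] [IsDirected ι (· ≤ ·)] [Nonempty ι] (Tf : ιᵒᵖ ⥤ Scheme.{u})
  (h2 : ∀ a, IsAffine (Tf.obj a)) (c : Cone Tf) (hc : IsLimit c) (w : ∀ a, Tf.obj a ⟶ X)
  (hw : ∀ ⦃a b : ιᵒᵖ⦄ (f : a ⟶ b), Tf.map f ≫ w b = w a) (h1 : ∀ a, AlgebraicGeometry.Etale (w a))
  (w' : c.pt ⟶ X) (hw' : ∀ a, c.π.app a ≫ w a = w') (G : EtCoh.Ab X)

include h2 in
omit [Nonempty ι] [IsDirected ι (· ≤ ·)] in
theorem isAffineHom_map ⦃a b : ιᵒᵖ⦄ (f : a ⟶ b) : IsAffineHom (Tf.map f) := by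
  have : IsAffine (Tf.obj a) := h2 a
  have : IsAffine (Tf.obj b) := h2 b
  infer_instance

include h2 in
omit [Nonempty ι] [IsDirected ι (· ≤ ·)] in
theorem compact_obj (a : ιᵒᵖ) : CompactSpace ↥(Tf.obj a) := by
  have : IsAffine (Tf.obj a) := h2 a
  infer_instance

include h2 in
omit [Nonempty ι] [IsDirected ι (· ≤ ·)] in
theorem quasiSep_obj (a : ιᵒᵖ) : QuasiSeparatedSpace ↥(Tf.obj a) := by
  have : IsAffine (Tf.obj a) := h2 a
  infer_instance

include hc h2 hw h1 hw'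

theorem exists_sg_aux (s : ST G w') :
    ∃ (B : X.Etale) (_ : IsAffine B.left) (t : c.pt ⟶ B.left) (ht : t ≫ B.hom = w') (g : EtCoh.sect G B),
      sg w' B t ht G g = s := by
  obtain ⟨ξ, rfl⟩ := (H0 c.pt ((EtCoh.pull w').obj G)).surjective s
  obtain ⟨j, -, η, hη⟩ := Groth.Agent.Sga4h.ResLim817.exists_res Tf (isAffineHom_map Tf h2)
    (compact_obj Tf h2) (quasiSep_obj Tf h2) c hc G
    w hw w' hw' 0 (Classical.arbitrary ι) ξ
  have hE := h1 (op j)
  let B : X.Etale := Scheme.Etale.mk (w (op j))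
  obtain ⟨g, hg⟩ := (bijective_sg_self B G).2 (H0 (Tf.obj (op j)) ((EtCoh.pull (w (op j))).obj G) η)
  refine ⟨B, h2 (op j), c.π.app (op j), hw' (op j), g, ?_⟩
  rw [← hη]
  refine Eq.trans ?_ (H0_res (c.π.app (op j)) (w (op j)) w' (hw' (op j)) G η).symm
  refine Eq.trans ?_ (congrArg (rs (c.π.app (op j)) (w (op j)) w' (hw' (op j)) G) hg)
  exact (rs_sg (c.π.app (op j)) B.hom w' (hw' (op j)) B (𝟙 B.left) (Category.id_comp _) (c.π.app (op j))
    (Category.comp_id _) (hw' (op j)) G g).symm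

theorem exists_res_eq_zero_aux (B : X.Etale) (t : c.pt ⟶ B.left) (ht : t ≫ B.hom = w') (g : EtCoh.sect G B)
    (hg : sg w' B t ht G g = 0) :
    ∃ (B' : X.Etale) (_ : IsAffine B'.left) (v : B' ⟶ B) (t' : c.pt ⟶ B'.left),
      t' ≫ v.left = t ∧ res G v g = 0 := by
  have hBE : AlgebraicGeometry.Etale B.hom := B.prop
  let tt : Tf ⟶ (Functor.const ιᵒᵖ).obj X :=
    { app := w
      naturality := fun a b f => (hw f).trans (Category.comp_id _).symm }
  have hqc := compact_obj Tf h2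
  have hqs := quasiSep_obj Tf h2
  have haff : ∀ {a b : ιᵒᵖ} (f : a ⟶ b), IsAffineHom (Tf.map f) := fun {a b} f => isAffineHom_map Tf h2 f
  obtain ⟨k, r, hr1, hr2⟩ := Scheme.exists_π_app_comp_eq_of_locallyOfFinitePresentation Tf tt B.hom
    c hc t (by
      ext i : 2
      exact (hw' i).trans ht.symm)
  have hE := h1 k
  let Bk : X.Etale := Scheme.Etale.mk (w k)
  let vk : Bk ⟶ B := MorphismProperty.Over.homMk r hr2
  obtain ⟨η, hη⟩ := (H0 (Tf.obj k) ((EtCoh.pull (w k)).obj G)).surjective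
    (sg (w k) Bk (𝟙 _) (Category.id_comp _) G (res G vk g))
  have e0 : sg w' Bk (c.π.app k) (hw' k) G (res G vk g) = 0 := by
    rw [← hg]
    exact sg_res w' vk (c.π.app k) (hw' k) t hr1 ht G g
  have e1 : Groth.Agent.Sga1.UlaRes.res G (c.π.app k) (w k) w' (hw' k) 0 η = 0 := by
    apply (H0 c.pt ((EtCoh.pull w').obj G)).injective
    refine (H0_res (c.π.app k) (w k) w' (hw' k) G η).trans ?_
    rw [hη, map_zero]
    refine Eq.trans ?_ e0
    exact rs_sg (c.π.app k) (w k) w' (hw' k) Bk (𝟙 _) (Category.id_comp _) (c.π.app k)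
      (Category.comp_id _) (hw' k) G _
  obtain ⟨l, hl, e2⟩ := Groth.Agent.Sga4h.ResLim817.exists_res_zero Tf (isAffineHom_map Tf h2)
    hqc hqs c hc G w hw w' hw' 0 k.unop η e1
  have hE' := h1 (op l)
  let Bl : X.Etale := Scheme.Etale.mk (w (op l))
  let vl : Bl ⟶ Bk := MorphismProperty.Over.homMk (Tf.map (homOfLE hl).op) (hw _)
  refine ⟨Bl, h2 (op l), vl ≫ vk, c.π.app (op l), ?_, ?_⟩
  · have e3 : c.π.app (op l) ≫ Tf.map (homOfLE hl).op = c.π.app k := c.w (homOfLE hl).op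
    have e4 : (vl ≫ vk).left = Tf.map (homOfLE hl).op ≫ r := rfl
    rw [e4]
    exact (Category.assoc _ _ _).symm.trans ((congrArg (fun z => z ≫ r) e3).trans hr1)
  · refine (injective_iff_map_eq_zero _).1 (bijective_sg_self Bl G).1 _ ?_
    have e5 : rs (Tf.map (homOfLE hl).op) (w k) (w (op l)) (hw _) G
        (sg (w k) Bk (𝟙 _) (Category.id_comp _) G (res G vk g)) = 0 := by
      rw [← hη]
      refine (H0_res (Tf.map (homOfLE hl).op) (w k) (w (op l)) (hw _) G η).symm.trans ?_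
      rw [e2, map_zero]
    refine Eq.trans ?_ e5
    refine Eq.trans ?_ (rs_sg (Tf.map (homOfLE hl).op) (w k) (w (op l)) (hw _) Bk (𝟙 _)
      (Category.id_comp _) (Tf.map (homOfLE hl).op) (Category.comp_id _) (hw _) G _).symm
    refine (congrArg (sg Bl.hom Bl (𝟙 Bl.left) (Category.id_comp _) G) (res_res G vl vk g).symm).trans ?_
    exact sg_res _ vl (𝟙 _) (Category.id_comp _) (Tf.map (homOfLE hl).op) (Category.id_comp _) (hw _) G _

end

section

variable {X' : Scheme.{u}} {h : X' ⟶ X} (H : IsEtLim h) (G : EtCoh.Ab X)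

include H

theorem exists_sg (s : ST G h) :
    ∃ (B : X.Etale) (_ : IsAffine B.left) (t : X' ⟶ B.left) (ht : t ≫ B.hom = h) (g : EtCoh.sect G B),
      sg h B t ht G g = s := by
  obtain ⟨ι, _, _, _, D, π, hc, h1, h2, h3⟩ := H
  exact exists_sg_aux (D ⋙ Over.forget X) h2 (Cone.mk X' π) hc (fun a => (D.obj a).hom)
    (fun a b f => Over.w (D.map f)) h1 h h3 G s

theorem exists_res_eq_zero (B : X.Etale) (t : X' ⟶ B.left) (ht : t ≫ B.hom = h) (g : EtCoh.sect G B)
    (hg : sg h B t ht G g = 0) :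
    ∃ (B' : X.Etale) (_ : IsAffine B'.left) (v : B' ⟶ B) (t' : X' ⟶ B'.left),
      t' ≫ v.left = t ∧ res G v g = 0 := by
  obtain ⟨ι, _, _, _, D, π, hc, h1, h2, h3⟩ := H
  exact exists_res_eq_zero_aux (D ⋙ Over.forget X) h2 (Cone.mk X' π) hc (fun a => (D.obj a).hom)
    (fun a b f => Over.w (D.map f)) h1 h h3 G B t ht g hg

end

end K75.EtSec
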