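import Groth.Agent.Etcore.LocEt
import Groth.Agent.Etcore.HpullComp
import Groth.Agent.Etcore.LocSec

/-!
# Pullback of sections of étale sheaves, in terms of morphisms of schemes

* `mk a W B t h : W ⟶ B ×_X T` for `t : W ⟶ B` over `a : T ⟶ X`;
* `sp a W B t h G : G(B) →+ (a⁻¹G)(W)`, and its functoriality.
-/

set_option autoImplicit false
universe u
open CategoryTheory CategoryTheory.Limits AlgebraicGeometry Opposite

namespace K75.EtSec

open Groth.Agent.Etcore.LocSec Groth.Agent.Etcore.PullCoh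

variable {X T T' : Scheme.{u}}

set_option backward.isDefEq.respectTransparency.types false in
/-- The morphism to the base change given by a morphism of schemes. -/
noncomputable def mk (a : T ⟶ X) (W : T.Etale) (B : X.Etale) (t : W.left ⟶ B.left)
    (h : t ≫ B.hom = W.hom ≫ a) : W ⟶ (EtCoh.bc a).obj B :=
  MorphismProperty.Over.homMk (pullback.lift t W.hom h) (pullback.lift_snd _ _ _)

set_option backward.isDefEq.respectTransparency.types false in
theorem mk_left_fst (a : T ⟶ X) (W : T.Etale) (B : X.Etale) (t : W.left ⟶ B.left)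
    (h : t ≫ B.hom = W.hom ≫ a) : (mk a W B t h).left ≫ pullback.fst B.hom a = t :=
  pullback.lift_fst _ _ _

/-- Pullback of sections. -/
noncomputable def sp (a : T ⟶ X) (W : T.Etale) (B : X.Etale) (t : W.left ⟶ B.left)
    (h : t ≫ B.hom = W.hom ≫ a) (G : EtCoh.Ab X) :
    EtCoh.sect G B →+ EtCoh.sect ((EtCoh.pull a).obj G) W :=
  secPull a (mk a W B t h) G

theorem sp_congr (a : T ⟶ X) (W : T.Etale) (B : X.Etale) {t t' : W.left ⟶ B.left} (e : t = t')
    (h : t ≫ B.hom = W.hom ≫ a) (h' : t' ≫ B.hom = W.hom ≫ a) (G : EtCoh.Ab X) :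
    sp a W B t h G = sp a W B t' h' G := by
  subst e; rfl

set_option backward.isDefEq.respectTransparency.types false in
theorem res_sp (a : T ⟶ X) {W W' : T.Etale} (r : W' ⟶ W) (B : X.Etale) (t : W.left ⟶ B.left)
    (h : t ≫ B.hom = W.hom ≫ a) (t' : W'.left ⟶ B.left) (ht : r.left ≫ t = t')
    (h' : t' ≫ B.hom = W'.hom ≫ a) (G : EtCoh.Ab X)
    (g : EtCoh.sect G B) :
    res ((EtCoh.pull a).obj G) r (sp a W B t h G g) = sp a W' B t' h' G g := by
  subst ht
  rw [sp, sp, ← secPull_res]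
  congr 2
  apply bc_hom_ext
  rw [mk_left_fst]
  have e : (r ≫ mk a W B t h).left = r.left ≫ (mk a W B t h).left := rfl
  rw [e, Category.assoc, mk_left_fst]

set_option backward.isDefEq.respectTransparency.types false in
theorem sp_res (a : T ⟶ X) (W : T.Etale) {B B' : X.Etale} (v : B ⟶ B') (t : W.left ⟶ B.left)
    (h : t ≫ B.hom = W.hom ≫ a) (t' : W.left ⟶ B'.left) (ht : t ≫ v.left = t')
    (h' : t' ≫ B'.hom = W.hom ≫ a) (G : EtCoh.Ab X) (g : EtCoh.sect G B') :
    sp a W B t h G (res G v g) = sp a W B' t' h' G g := by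
  subst ht
  rw [sp, sp, ← secPull_bc]
  congr 2
  apply bc_hom_ext
  rw [mk_left_fst]
  have e : (mk a W B t h ≫ (EtCoh.bc a).map v).left =
    (mk a W B t h).left ≫ ((EtCoh.bc a).map v).left := rfl
  rw [e, Category.assoc]
  refine (congrArg (fun k => (mk a W B t h).left ≫ k) (bc_map_left_fst a v)).trans ?_
  exact (Category.assoc _ _ _).symm.trans (congrArg (fun z => z ≫ v.left) (mk_left_fst a W B t h))

set_option backward.isDefEq.respectTransparency.types false in
theorem th_sp (k : T' ⟶ T) (a : T ⟶ X) (a' : T' ⟶ X) (w : k ≫ a = a') (W' : T'.Etale) (W : T.Etale)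
    (r : W'.left ⟶ W.left) (hr : r ≫ W.hom = W'.hom ≫ k) (B : X.Etale) (t : W.left ⟶ B.left)
    (h : t ≫ B.hom = W.hom ≫ a) (t' : W'.left ⟶ B.left) (ht : r ≫ t = t')
    (h' : t' ≫ B.hom = W'.hom ≫ a') (G : EtCoh.Ab X) (g : EtCoh.sect G B) :
    app (th k a a' w G) W' (sp k W' W r hr ((EtCoh.pull a).obj G) (sp a W B t h G g)) =
      sp a' W' B t' h' G g := by
  subst w
  subst ht
  rw [sp, sp, secPull_secPull, ← app_comp]
  have e0 : (EtCore.pullComp k a).hom.app G ≫ th k a (k ≫ a) rfl G = 𝟙 _ := by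
    rw [th, theta_rfl_hom_app]
    exact Iso.hom_inv_id_app (EtCore.pullComp k a) G
  rw [e0, app_id, sp]
  congr 2
  apply bc_hom_ext
  rw [mk_left_fst]
  have e : (mk k W' W r hr ≫ (EtCoh.bc k).map (mk a W B t h) ≫ (kap k a B).hom).left =
    (mk k W' W r hr).left ≫ ((EtCoh.bc k).map (mk a W B t h)).left ≫ (kap k a B).hom.left := rfl
  rw [e, Category.assoc, Category.assoc]
  have e1 := kap_hom_left_fst k a B
  have e2 : ((EtCoh.bc k).map (mk a W B t h)).left ≫ pullback.fst (pullback.snd B.hom a) k =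
      pullback.fst W.hom k ≫ (mk a W B t h).left := bc_map_left_fst k (mk a W B t h)
  refine (congrArg (fun z => (mk k W' W r hr).left ≫ ((EtCoh.bc k).map (mk a W B t h)).left ≫ z) e1).trans ?_
  refine (congrArg (fun z => (mk k W' W r hr).left ≫ z) ((Category.assoc _ _ _).symm.trans
    ((congrArg (fun z => z ≫ pullback.fst B.hom a) e2).trans (Category.assoc _ _ _)))).trans ?_
  refine (congrArg (fun z => (mk k W' W r hr).left ≫ pullback.fst W.hom k ≫ z) (mk_left_fst a W B t h)).trans ?_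
  exact (Category.assoc _ _ _).symm.trans (congrArg (fun z => z ≫ t) (mk_left_fst k W' W r hr))

end K75.EtSec
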