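import Groth.Agent.HensSch.K75.EtSec
import Groth.Agent.Sga1.UlaRes2

/-!
# Global sections of inverse images of étale sheaves, and `H⁰`
-/

set_option autoImplicit false
universe u
open CategoryTheory CategoryTheory.Limits AlgebraicGeometry Opposite

namespace K75.EtSec

open Groth.Agent.Etcore.LocSec Groth.Agent.Etcore.PullCoh Groth.Agent.Etcore.LocEt

variable {X T T' : Scheme.{u}}

/-- Global sections of `a⁻¹ G`. -/
abbrev ST (G : EtCoh.Ab X) (a : T ⟶ X) : Type (u + 1) := EtCoh.sect ((EtCoh.pull a).obj G) (EtCoh.top T)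

theorem top_hom_comp (k : T' ⟶ T) : k ≫ (EtCoh.top T).hom = (EtCoh.top T').hom ≫ k :=
  (Category.comp_id k).trans (Category.id_comp k).symm

/-- Pullback of a section over `B` to a global section. -/
noncomputable def sg (a : T ⟶ X) (B : X.Etale) (t : T ⟶ B.left) (h : t ≫ B.hom = a) (G : EtCoh.Ab X) :
    EtCoh.sect G B →+ ST G a :=
  sp a (EtCoh.top T) B t (h.trans (Category.id_comp a).symm) G

theorem sg_eq (a : T ⟶ X) (B : X.Etale) (t : T ⟶ B.left) (h : t ≫ B.hom = a) (G : EtCoh.Ab X) :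
    sg a B t h G = sp a (EtCoh.top T) B t (h.trans (Category.id_comp a).symm) G := rfl

/-- Pullback of global sections. -/
noncomputable def rs (k : T' ⟶ T) (a : T ⟶ X) (a' : T' ⟶ X) (w : k ≫ a = a') (G : EtCoh.Ab X) :
    ST G a →+ ST G a' :=
  (app (th k a a' w G) (EtCoh.top T')).comp
    (sp k (EtCoh.top T') (EtCoh.top T) k (top_hom_comp k) ((EtCoh.pull a).obj G))

theorem rs_sg (k : T' ⟶ T) (a : T ⟶ X) (a' : T' ⟶ X) (w : k ≫ a = a') (B : X.Etale) (t : T ⟶ B.left)
    (h : t ≫ B.hom = a) (t' : T' ⟶ B.left) (ht : k ≫ t = t') (h' : t' ≫ B.hom = a') (G : EtCoh.Ab X)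
    (g : EtCoh.sect G B) :
    rs k a a' w G (sg a B t h G g) = sg a' B t' h' G g :=
  th_sp k a a' w (EtCoh.top T') (EtCoh.top T) k (top_hom_comp k) B t _ t' ht _ G g

theorem sg_res (a : T ⟶ X) {B B' : X.Etale} (v : B ⟶ B') (t : T ⟶ B.left) (h : t ≫ B.hom = a)
    (t' : T ⟶ B'.left) (ht : t ≫ v.left = t') (h' : t' ≫ B'.hom = a) (G : EtCoh.Ab X)
    (g : EtCoh.sect G B') :
    sg a B t h G (res G v g) = sg a B' t' h' G g :=
  sp_res a (EtCoh.top T) v t _ t' ht _ G g

open Groth.Agent.Etcore Groth.Agent.Etcore.HpullCalc in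
theorem H0_hpVia (k : T' ⟶ T) (a : T ⟶ X) (a' : T' ⟶ X) (w : k ≫ a = a')
    [PreservesFiniteLimits (EtCoh.pull k)] (G : EtCoh.Ab X)
    (x : EtInst.HH T ((EtCoh.pull a).obj G) 0) :
    H0 T' _ (hpVia k a a' w G 0 x) = rs k a a' w G (H0 T _ x) := by
  rw [hpVia_apply_th, H0_map, hp_zero, rs]
  refine congrArg (app (th k a a' w G) (EtCoh.top T')) ?_
  rw [unitSec_eq]
  have e : (EtCore.bcTopIso k).inv = mk k (EtCoh.top T') (EtCoh.top T) k (top_hom_comp k) :=
    (EtCore.bcTopIsTerminal k).hom_ext _ _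
  rw [e]
  rfl

set_option backward.isDefEq.respectTransparency.types false in
/-- The object `B` of the small étale site is the composite of the top object of `B` with `B ⟶ X`. -/
noncomputable def topIso (B : X.Etale) [hE : AlgebraicGeometry.Etale B.hom] :
    (EtShriek.compEtale B.hom).obj (EtCoh.top B.left) ≅ B where
  hom := MorphismProperty.Over.homMk (𝟙 B.left) (by
    change 𝟙 B.left ≫ B.hom = 𝟙 B.left ≫ B.hom
    rfl)
  inv := MorphismProperty.Over.homMk (𝟙 B.left) (by
    change 𝟙 B.left ≫ (𝟙 B.left ≫ B.hom) = B.hom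
    rw [Category.id_comp, Category.id_comp])
  hom_inv_id := MorphismProperty.Over.Hom.ext (Category.id_comp _)
  inv_hom_id := MorphismProperty.Over.Hom.ext (Category.id_comp _)

set_option backward.isDefEq.respectTransparency.types false in
/-- For `j : T ⟶ X` étale, global sections of `j⁻¹ G` are sections of `G` over `T`. -/
theorem bijective_sp_self (B : X.Etale) (G : EtCoh.Ab X) :
    Function.Bijective (sp B.hom (EtCoh.top B.left) B (𝟙 B.left)
      ((Category.id_comp B.hom).trans (Category.id_comp B.hom).symm) G) := by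
  have hE : AlgebraicGeometry.Etale B.hom := B.prop
  let t := mk B.hom (EtCoh.top B.left) B (𝟙 B.left)
      ((Category.id_comp B.hom).trans (Category.id_comp B.hom).symm)
  have h1 : adjt B.hom t = (topIso B).hom := by
    apply MorphismProperty.Over.Hom.ext
    exact mk_left_fst B.hom (EtCoh.top B.left) B (𝟙 B.left) _
  have h2 : IsIso (adjt B.hom t) := by rw [h1]; infer_instance
  exact secPull_bijective B.hom t G

theorem bijective_sg_self (B : X.Etale) (G : EtCoh.Ab X) :
    Function.Bijective (sg B.hom B (𝟙 B.left) (Category.id_comp _) G) :=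
  bijective_sp_self B G

/-- Sections of `a⁻¹ G` over `W` are global sections of the inverse image of `G` along `W ⟶ T ⟶ X`. -/
noncomputable def kp (a : T ⟶ X) (W : T.Etale) (b : W.left ⟶ X) (hb : W.hom ≫ a = b) (G : EtCoh.Ab X) :
    EtCoh.sect ((EtCoh.pull a).obj G) W →+ ST G b :=
  (app (th W.hom a b hb G) (EtCoh.top W.left)).comp
    (sp W.hom (EtCoh.top W.left) W (𝟙 W.left)
      ((Category.id_comp W.hom).trans (Category.id_comp W.hom).symm) ((EtCoh.pull a).obj G))

theorem bijective_kp (a : T ⟶ X) (W : T.Etale) (b : W.left ⟶ X) (hb : W.hom ≫ a = b) (G : EtCoh.Ab X) :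
    Function.Bijective (kp a W b hb G) :=
  (app_bijective (th W.hom a b hb G) _).comp (bijective_sp_self W _)

theorem kp_sp (a : T ⟶ X) (W : T.Etale) (b : W.left ⟶ X) (hb : W.hom ≫ a = b) (B : X.Etale)
    (t : W.left ⟶ B.left) (h : t ≫ B.hom = W.hom ≫ a) (h' : t ≫ B.hom = b) (G : EtCoh.Ab X)
    (g : EtCoh.sect G B) :
    kp a W b hb G (sp a W B t h G g) = sg b B t h' G g :=
  th_sp W.hom a b hb (EtCoh.top W.left) W (𝟙 W.left) _ B t h t (Category.id_comp t) _ G g

end K75.EtSec
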