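import Mathlib.Topology.LocallyConstant.Basic
import Mathlib.Topology.Connected.Clopen
import Mathlib.Topology.Compactness.Compact
import Mathlib.Data.Rat.Defs
import Mathlib.Algebra.Order.Ring.Rat
import Mathlib.Tactic.Linarith

/-!
# A loop of three closed sets supports a non-trivial class
-/

set_option autoImplicit false

namespace K75.Loop

variable {X Y : Type*} [TopologicalSpace X] [TopologicalSpace Y] [CompactSpace X] {ρ : X → Y}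

/-- The maximum of a locally constant function on `ρ⁻¹ S`, `S` connected, is attained on every fibre, if `ρ` is open
and closed. -/
theorem exists_max (hρ : Continuous ρ) (hc : IsClosedMap ρ) {S : Set Y} (hSc : IsClosed S) (hS : IsPreconnected S)
    (hopen : ∀ U : Set X, IsOpen U → ∃ O : Set Y, IsOpen O ∧ ρ '' (U ∩ ρ ⁻¹' S) = O ∩ S)
    (g : X → ℚ) (hg : ∀ x, ρ x ∈ S → ∃ U, IsOpen U ∧ x ∈ U ∧ ∀ y ∈ U, ρ y ∈ S → g y = g x)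
    (hne : ∃ x, ρ x ∈ S) :
    ∃ c, (∀ x, ρ x ∈ S → g x ≤ c) ∧ ∀ v ∈ S, ∃ x, ρ x = v ∧ g x = c := by
  choose! U hU hxU hgU using hg
  -- finitely many values
  have hZ : IsCompact (ρ ⁻¹' S) := (hSc.preimage hρ).isCompact
  obtain ⟨t, ht, htZ⟩ := hZ.elim_nhds_subcover U (fun x hx => (hU x hx).mem_nhds (hxU x hx))
  have htne : t.Nonempty := by
    obtain ⟨x, hx⟩ := hne
    obtain ⟨y, hy, -⟩ := Set.mem_iUnion₂.mp (htZ hx)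
    exact ⟨y, hy⟩
  obtain ⟨x₀, hx₀, hmax⟩ := Finset.exists_max_image t g htne
  have hx₀S : ρ x₀ ∈ S := ht x₀ hx₀
  refine ⟨g x₀, fun x hx => ?_, ?_⟩
  · obtain ⟨y, hy, hxy⟩ := Set.mem_iUnion₂.mp (htZ hx)
    rw [hgU y (ht y hy) x hxy hx]
    exact hmax y hy
  · -- the set where the maximum is attained
    let C : Set X := {x | ρ x ∈ S ∧ g x = g x₀}
    let V : Set X := ⋃ x ∈ C, U x
    let V' : Set X := ⋃ x ∈ {x | ρ x ∈ S ∧ g x ≠ g x₀}, U x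
    have hV : IsOpen V := isOpen_biUnion fun x hx => hU x hx.1
    have hV' : IsOpen V' := isOpen_biUnion fun x hx => hU x hx.1
    have hVC : V ∩ ρ ⁻¹' S = C := by
      ext y
      constructor
      · rintro ⟨hy, hyS⟩
        obtain ⟨x, hx, hyx⟩ := Set.mem_iUnion₂.mp hy
        exact ⟨hyS, (hgU x hx.1 y hyx hyS).trans hx.2⟩
      · intro hy
        exact ⟨Set.mem_iUnion₂.mpr ⟨y, hy, hxU y hy.1⟩, hy.1⟩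
    have hV'C : C = ρ ⁻¹' S ∩ V'ᶜ := by
      ext y
      constructor
      · rintro ⟨hyS, hy⟩
        refine ⟨hyS, fun hyV => ?_⟩
        obtain ⟨x, hx, hyx⟩ := Set.mem_iUnion₂.mp hyV
        exact hx.2 ((hgU x hx.1 y hyx hyS).symm.trans hy)
      · rintro ⟨hyS, hy⟩
        refine ⟨hyS, ?_⟩
        by_contra hne
        exact hy (Set.mem_iUnion₂.mpr ⟨y, ⟨hyS, hne⟩, hxU y hyS⟩)
    have hCc : IsClosed C := by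
      rw [hV'C]
      exact (hSc.preimage hρ).inter hV'.isClosed_compl
    obtain ⟨O, hO, hOS⟩ := hopen V hV
    rw [hVC] at hOS
    have hsub := (isPreconnected_iff_subset_of_disjoint.mp hS) O (ρ '' C)ᶜ hO (hc _ hCc).isOpen_compl
      (fun s hs => by
        by_cases h : s ∈ ρ '' C
        · exact Or.inl (hOS ▸ h : s ∈ O ∩ S).1
        · exact Or.inr h)
      (by
        rw [← Set.inter_assoc, Set.inter_comm S O, ← hOS, Set.inter_compl_self])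
    have hx₀C : x₀ ∈ C := ⟨hx₀S, rfl⟩
    intro v hv
    rcases hsub with hsub | hsub
    · have : v ∈ ρ '' C := by rw [hOS]; exact ⟨hsub hv, hv⟩
      obtain ⟨x, hx, rfl⟩ := this
      exact ⟨x, rfl, hx.2⟩
    · exact (hsub hx₀S ⟨x₀, hx₀C, rfl⟩).elim

/-- There are no functions `f₁` on `X ∖ (Z₂ ∩ Z₃)` and `f₂` on `X ∖ (Z₁ ∩ Z₃)`, locally constant, with
`f₁ - f₂ = 0` on `(Z₁ ∪ Z₂) ∖ Z₃` and `f₁ - f₂ = 1` on `Z₃ ∖ (Z₁ ∪ Z₂)`, where `Zᵢ = ρ⁻¹ Sᵢ`. -/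
theorem false_of (hρ : Continuous ρ) (hc : IsClosedMap ρ) {S₁ S₂ S₃ : Set Y} (hS₁ : IsClosed S₁)
    (hS₂ : IsClosed S₂) (hS₃ : IsClosed S₃) (h12 : IsPreconnected (S₁ ∪ S₂)) (h3 : IsPreconnected S₃)
    (hopen : ∀ U : Set X, IsOpen U → ∀ S, IsClosed S → S ⊆ S₁ ∪ S₂ ∪ S₃ →
      ∃ O : Set Y, IsOpen O ∧ ρ '' (U ∩ ρ ⁻¹' S) = O ∩ S)
    (h123 : ∀ x, ρ x ∈ S₁ → ρ x ∈ S₂ → ρ x ∈ S₃ → False)
    {v₁₃ v₂₃ : Y} (hv₁₃ : v₁₃ ∈ S₁ ∩ S₃) (hv₂₃ : v₂₃ ∈ S₂ ∩ S₃) (hne : ∃ x, ρ x = v₁₃)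
    (f₁ f₂ : X → ℚ)
    (hf₁ : ∀ x, ¬ (ρ x ∈ S₂ ∧ ρ x ∈ S₃) → ∃ U, IsOpen U ∧ x ∈ U ∧ ∀ y ∈ U, ¬ (ρ y ∈ S₂ ∧ ρ y ∈ S₃) ∧ f₁ y = f₁ x)
    (hf₂ : ∀ x, ¬ (ρ x ∈ S₁ ∧ ρ x ∈ S₃) → ∃ U, IsOpen U ∧ x ∈ U ∧ ∀ y ∈ U, ¬ (ρ y ∈ S₁ ∧ ρ y ∈ S₃) ∧ f₂ y = f₂ x)
    (h0 : ∀ x, ρ x ∉ S₃ → f₁ x = f₂ x)
    (h1 : ∀ x, ρ x ∉ S₁ → ρ x ∉ S₂ → f₁ x = f₂ x + 1) : False := by
  classical
  let g : X → ℚ := fun x => if ρ x ∈ S₂ ∧ ρ x ∈ S₃ then f₂ x else f₁ x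
  let h : X → ℚ := fun x => if ρ x ∈ S₂ ∧ ρ x ∈ S₃ then f₂ x + 1 else f₁ x
  have hg₁ (x : X) (hx : ¬ (ρ x ∈ S₂ ∧ ρ x ∈ S₃)) : g x = f₁ x := if_neg hx
  have hh₁ (x : X) (hx : ¬ (ρ x ∈ S₂ ∧ ρ x ∈ S₃)) : h x = f₁ x := if_neg hx
  have hg₂ (x : X) (hx : ¬ (ρ x ∈ S₁ ∧ ρ x ∈ S₃)) (hx' : ρ x ∈ S₁ ∪ S₂) : g x = f₂ x := by
    by_cases hx2 : ρ x ∈ S₂ ∧ ρ x ∈ S₃
    · exact if_pos hx2
    · rw [hg₁ x hx2]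
      apply h0
      intro hx3
      rcases hx' with h' | h'
      · exact hx ⟨h', hx3⟩
      · exact hx2 ⟨h', hx3⟩
  have hh₂ (x : X) (hx : ¬ (ρ x ∈ S₁ ∧ ρ x ∈ S₃)) (hx' : ρ x ∈ S₃) : h x = f₂ x + 1 := by
    by_cases hx2 : ρ x ∈ S₂ ∧ ρ x ∈ S₃
    · exact if_pos hx2
    · rw [hh₁ x hx2]
      exact h1 x (fun h' => hx ⟨h', hx'⟩) (fun h' => hx2 ⟨h', hx'⟩)
  have hgl : ∀ x, ρ x ∈ S₁ ∪ S₂ → ∃ U, IsOpen U ∧ x ∈ U ∧ ∀ y ∈ U, ρ y ∈ S₁ ∪ S₂ → g y = g x := by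
    intro x hx
    by_cases hx2 : ρ x ∈ S₂ ∧ ρ x ∈ S₃
    · have hx1 : ¬ (ρ x ∈ S₁ ∧ ρ x ∈ S₃) := fun h' => h123 x h'.1 hx2.1 hx2.2
      obtain ⟨U, hU, hxU, hUf⟩ := hf₂ x hx1
      refine ⟨U, hU, hxU, fun y hy hyS => ?_⟩
      rw [hg₂ y (hUf y hy).1 hyS, hg₂ x hx1 hx, (hUf y hy).2]
    · obtain ⟨U, hU, hxU, hUf⟩ := hf₁ x hx2
      refine ⟨U, hU, hxU, fun y hy _ => ?_⟩
      rw [hg₁ y (hUf y hy).1, hg₁ x hx2, (hUf y hy).2]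
  have hhl : ∀ x, ρ x ∈ S₃ → ∃ U, IsOpen U ∧ x ∈ U ∧ ∀ y ∈ U, ρ y ∈ S₃ → h y = h x := by
    intro x hx
    by_cases hx2 : ρ x ∈ S₂ ∧ ρ x ∈ S₃
    · have hx1 : ¬ (ρ x ∈ S₁ ∧ ρ x ∈ S₃) := fun h' => h123 x h'.1 hx2.1 hx2.2
      obtain ⟨U, hU, hxU, hUf⟩ := hf₂ x hx1
      refine ⟨U, hU, hxU, fun y hy hyS => ?_⟩
      rw [hh₂ y (hUf y hy).1 hyS, hh₂ x hx1 hx, (hUf y hy).2]
    · obtain ⟨U, hU, hxU, hUf⟩ := hf₁ x hx2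
      refine ⟨U, hU, hxU, fun y hy _ => ?_⟩
      rw [hh₁ y (hUf y hy).1, hh₁ x hx2, (hUf y hy).2]
  obtain ⟨x₁₃, hx₁₃⟩ := hne
  obtain ⟨c, hc1, hc2⟩ := exists_max hρ hc (hS₁.union hS₂) h12
    (fun U hU => hopen U hU _ (hS₁.union hS₂) Set.subset_union_left) g hgl
    ⟨x₁₃, by rw [hx₁₃]; exact Or.inl hv₁₃.1⟩
  obtain ⟨d, hd1, hd2⟩ := exists_max hρ hc hS₃ h3
    (fun U hU => hopen U hU _ hS₃ Set.subset_union_right) h hhl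
    ⟨x₁₃, by rw [hx₁₃]; exact hv₁₃.2⟩
  -- over `v₂₃`
  obtain ⟨w, hw, hgw⟩ := hc2 v₂₃ (Or.inr hv₂₃.1)
  have hw2 : ρ w ∈ S₂ ∧ ρ w ∈ S₃ := by rw [hw]; exact hv₂₃
  have e1 : g w = f₂ w := if_pos hw2
  have e2 : h w = f₂ w + 1 := if_pos hw2
  have e3 := hd1 w hw2.2
  -- over `v₁₃`
  obtain ⟨w', hw', hhw'⟩ := hd2 v₁₃ hv₁₃.2
  have hw1 : ρ w' ∈ S₁ ∧ ρ w' ∈ S₃ := by rw [hw']; exact hv₁₃
  have hw2' : ¬ (ρ w' ∈ S₂ ∧ ρ w' ∈ S₃) := fun h' => h123 w' hw1.1 h'.1 h'.2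
  have e4 := hg₁ w' hw2'
  have e5 := hh₁ w' hw2'
  have e6 := hc1 w' (Or.inl hw1.1)
  linarith

end K75.Loop
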