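import Groth.Agent.HensSch.K941.SphStalk
import Groth.Agent.CalgB.HensPair
import Mathlib.RingTheory.Localization.AsSubring
import Mathlib.FieldTheory.IsAlgClosed.Basic

/-!
# Sections of the affine Henselian spectrum of an absolutely integrally closed domain

For a domain `A` which is integrally closed in its algebraically closed fraction field `K`, all the local rings of
`Spec A` are Henselian, so a section of the structure sheaf of `Sph(A, I)` is a locally constant function with
values in `K`.
-/

set_option autoImplicit false
universe u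
open CategoryTheory AlgebraicGeometry Opposite TopologicalSpace

namespace K75.SphSec

open Polynomial in
/-- A local normal domain with algebraically closed fraction field is Henselian. -/
theorem henselianRing_of_isAlgClosed (C K : Type*) [CommRing C] [IsDomain C] [IsLocalRing C] [Field K]
    [IsAlgClosed K] [Algebra C K] [IsFractionRing C K] [IsIntegrallyClosed C] :
    HenselianRing C (IsLocalRing.maximalIdeal C) := by
  refine Groth.Agent.CalgB.HensPair.henselian_mk (IsLocalRing.maximalIdeal_le_jacobson _) ?_
  intro f hf a₀ h0 _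
  by_contra hcon
  push Not at hcon
  have hinj := IsFractionRing.injective C K
  have hsplit : (f.map (algebraMap C K)).Splits := IsAlgClosed.splits _
  have h1 : algebraMap C K (f.eval a₀) = ((f.map (algebraMap C K)).roots.map fun r => algebraMap C K a₀ - r).prod := by
    rw [← Polynomial.eval₂_at_apply, ← Polynomial.eval_map]
    conv_lhs => rw [hsplit.eq_prod_roots_of_monic (hf.map _)]
    rw [Polynomial.eval_multiset_prod, Multiset.map_map]
    congr 1
    apply Multiset.map_congr rfl
    intro r _
    simp
  have h2 : ((f.map (algebraMap C K)).roots.map fun r => algebraMap C K a₀ - r).prod ∈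
      (IsUnit.submonoid C).map (algebraMap C K : C →* K) := by
    apply Submonoid.multiset_prod_mem
    intro z hz
    obtain ⟨r, hr, rfl⟩ := Multiset.mem_map.mp hz
    have hr' : (f.map (algebraMap C K)).eval r = 0 := (Polynomial.mem_roots'.mp hr).2
    have hint : IsIntegral C r := ⟨f, hf, by rw [← Polynomial.eval_map]; exact hr'⟩
    obtain ⟨c, rfl⟩ := IsIntegrallyClosed.isIntegral_iff.mp hint
    have hc : f.IsRoot c := by
      apply hinj
      rw [map_zero, ← Polynomial.eval₂_at_apply, ← Polynomial.eval_map]
      exact hr'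
    refine ⟨a₀ - c, ?_, by simp⟩
    have h3 := hcon c hc
    rw [IsLocalRing.mem_maximalIdeal, mem_nonunits_iff, not_not] at h3
    have : IsUnit (-(c - a₀)) := h3.neg
    rwa [neg_sub] at this
  obtain ⟨u, hu, hu'⟩ := h2
  have h3 : u = f.eval a₀ := hinj (hu'.trans h1.symm)
  rw [IsLocalRing.mem_maximalIdeal, mem_nonunits_iff, ← h3] at h0
  exact h0 hu

open K941.Sph

variable {A : Type u} [CommRing A] [IsDomain A] [IsIntegrallyClosed A] {I : Ideal A} {X : LocallyRingedSpace.{u}}
    {π : X ⟶ HensSch.specLRS A} (h : HensSch.IsSph A I X π)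
    (K : Type u) [Field K] [IsAlgClosed K] [Algebra A K] [IsFractionRing A K]

include h in
/-- The value of a germ at `x`, as an element of `K`. -/
theorem exists_val (x : X) : ∃ v : X.presheaf.stalk x →+* K, v.comp (toStalk π x) = algebraMap A K ∧
    Function.Injective v ∧ ∀ s, ∃ a b : A, b ∉ (π.base x).asIdeal ∧ toStalk π x b * s = toStalk π x a := by
  let p := (π.base x).asIdeal
  have hpp : p.IsPrime := (π.base x).2
  have hp : p.primeCompl ≤ nonZeroDivisors A := Ideal.primeCompl_le_nonZeroDivisors _
  let C := Localization.subalgebra.ofField K p.primeCompl hp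
  have : IsLocalization.AtPrime C p := Localization.subalgebra.isLocalization_ofField K p.primeCompl hp
  have : IsLocalRing C := IsLocalization.AtPrime.isLocalRing C p
  have : IsFractionRing C K := Localization.subalgebra.isFractionRing_ofField K p.primeCompl hp
  have : IsIntegrallyClosed C := isIntegrallyClosed_of_isLocalization (R := A) C p.primeCompl hp
  have hle : I.map (algebraMap A C) ≤ IsLocalRing.maximalIdeal C := by
    rw [← IsLocalization.AtPrime.map_eq_maximalIdeal p C]
    exact Ideal.map_mono (le_asIdeal h x)
  have hC : HenselianRing C (I.map (algebraMap A C)) :=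
    Groth.Agent.CalgB.HensPair.henselian_of_le (henselianRing_of_isAlgClosed C K) hle
  obtain ⟨k, hk, -⟩ := existsUnique_stalk h x hC (algebraMap A C) le_rfl
    (fun f hf => IsLocalization.map_units C (⟨f, hf⟩ : p.primeCompl))
  have hu : ∀ f ∉ (π.base x).asIdeal, IsUnit (toStalk π x f) := fun f hf =>
    (isUnit_specStalk _ f hf).map (π.stalkMap x).hom
  obtain ⟨k', hk', huniq⟩ := existsUnique_stalk h x (henselianRing_stalk h x) (toStalk π x) le_rfl hu
  let e : C →+* X.presheaf.stalk x := IsLocalization.lift (M := p.primeCompl) (g := toStalk π x)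
    (fun f => hu f.1 f.2)
  have he : e.comp (algebraMap A C) = toStalk π x := IsLocalization.lift_comp _
  have h1 : (e.comp k).comp (toStalk π x) = toStalk π x := by rw [RingHom.comp_assoc, hk, he]
  have hek : e.comp k = RingHom.id _ := (huniq (e.comp k) h1).trans (huniq (RingHom.id _) rfl).symm
  have hki : Function.Injective k := by
    intro a b hab
    have := congrArg e hab
    rw [← RingHom.comp_apply, ← RingHom.comp_apply, hek] at this
    exact this
  refine ⟨C.val.toRingHom.comp k, ?_, ?_, ?_⟩
  · rw [RingHom.comp_assoc, hk]; rfl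
  · exact Subtype.val_injective.comp hki
  · intro s
    obtain ⟨⟨a, b⟩, hab⟩ := IsLocalization.surj p.primeCompl (k s)
    refine ⟨a, b, b.2, hki ?_⟩
    rw [map_mul, mul_comm]
    rw [← RingHom.comp_apply, ← RingHom.comp_apply, hk]
    exact hab

/-- The value of a germ at `x`, as an element of `K`. -/
noncomputable def val (x : X) : X.presheaf.stalk x →+* K := (exists_val h K x).choose

theorem val_toStalk (x : X) (a : A) : val h K x (toStalk π x a) = algebraMap A K a :=
  congrArg (fun k => k a) (exists_val h K x).choose_spec.1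

/-- Sections are locally constant functions with values in `K`. -/
theorem val_locally_constant (W : Opens X) (s : X.presheaf.obj (op W)) (x : X) (hx : x ∈ W) :
    ∃ (V : Opens X) (hVW : V ≤ W), x ∈ V ∧ ∀ (y : X) (hy : y ∈ V),
      val h K y (X.presheaf.germ W y (hVW hy) s) = val h K x (X.presheaf.germ W x hx s) := by
  obtain ⟨a, b, hb, hab⟩ := (exists_val h K x).choose_spec.2.2 (X.presheaf.germ W x hx s)
  have hxb : x ∈ HensSch.dOpen π b := hb
  have h1x : x ∈ (⊤ : Opens X) := trivial
  -- the two sections `b s` and `a` over `W` have the same germ at `x`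
  let tb : X.presheaf.obj (op W) := X.presheaf.map (homOfLE (le_top : W ≤ (Opens.map π.base).obj ⊤)).op
    (HensSch.secMap π ⊤ b)
  let ta : X.presheaf.obj (op W) := X.presheaf.map (homOfLE (le_top : W ≤ (Opens.map π.base).obj ⊤)).op
    (HensSch.secMap π ⊤ a)
  have hg (y : X) (hy : y ∈ W) (c : A) : X.presheaf.germ W y hy
      (X.presheaf.map (homOfLE (le_top : W ≤ (Opens.map π.base).obj ⊤)).op (HensSch.secMap π ⊤ c)) =
        toStalk π y c := by
    refine (TopCat.Presheaf.germ_res_apply X.presheaf (homOfLE (le_top : W ≤ (Opens.map π.base).obj ⊤)) y hy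
      (HensSch.secMap π ⊤ c)).trans ?_
    exact germ_secMap π ⊤ y trivial c
  have hgerm : X.presheaf.germ W x hx (tb * s) = X.presheaf.germ W x hx ta := by
    rw [map_mul, hg, hg]
    exact hab
  obtain ⟨V, hxV, i₁, i₂, hV⟩ := TopCat.Presheaf.germ_eq (F := X.presheaf) x hx hx _ _ hgerm
  refine ⟨V ⊓ HensSch.dOpen π b, inf_le_left.trans i₁.le, ⟨hxV, hxb⟩, fun y hy => ?_⟩
  have hyW : y ∈ W := i₁.le hy.1
  have h2 (z : X) (hz : z ∈ V) : algebraMap A K b * val h K z (X.presheaf.germ W z (i₁.le hz) s) =
      algebraMap A K a := by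
    have h3 : X.presheaf.germ W z (i₁.le hz) (tb * s) = X.presheaf.germ W z (i₁.le hz) ta := by
      rw [← TopCat.Presheaf.germ_res_apply X.presheaf i₁ z hz,
        ← TopCat.Presheaf.germ_res_apply X.presheaf i₂ z hz, hV]
    rw [map_mul, hg, hg] at h3
    have h4 := congrArg (val h K z) h3
    rw [map_mul, val_toStalk, val_toStalk] at h4
    exact h4
  have hb0 : algebraMap A K b ≠ 0 := by
    intro h0
    have : b = 0 := (map_eq_zero_iff _ (IsFractionRing.injective A K)).mp h0
    exact hb (this ▸ Ideal.zero_mem _)
  apply mul_left_cancel₀ hb0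
  exact (h2 y hy.1).trans (h2 x hxV).symm

end K75.SphSec
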