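import Groth.Agent.HensSch.K75.MV1
import Groth.Agent.HensSch.K75.SphSec
import Groth.Agent.HensSch.K75.Loop
import Groth.Agent.Ega43.NormalOpen
import Mathlib.RingTheory.IntegralClosure.IntegrallyClosed
import Mathlib.LinearAlgebra.Basis.VectorSpace

/-!
# Theorem B fails for affine Henselian spectra in characteristic zero
-/

set_option autoImplicit false
universe u
open CategoryTheory AlgebraicGeometry Opposite TopologicalSpace Topology

namespace K75.H1Sph

open K941.Sph K75.SphSec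

/-- Gluing the sections `0` and `1` on two disjoint open sets. -/
theorem exists_glue (X : LocallyRingedSpace.{u}) (W P Q : Opens X) (hPW : P ≤ W) (hQW : Q ≤ W)
    (hW : W ≤ P ⊔ Q) (hPQ : P ⊓ Q = ⊥) :
    ∃ z : X.presheaf.obj (op W), (∀ (x : X) (hx : x ∈ P), X.presheaf.germ W x (hPW hx) z = 0) ∧
      ∀ (x : X) (hx : x ∈ Q), X.presheaf.germ W x (hQW hx) z = 1 := by
  let V : Bool → Opens X := fun b => if b then Q else P
  let iUV : ∀ b, V b ⟶ W := fun b => homOfLE (by cases b; exacts [hPW, hQW])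
  let sf : ∀ b : Bool, X.presheaf.obj (op (V b)) := fun b => if b then 1 else 0
  obtain ⟨z, hz, -⟩ := X.sheaf.existsUnique_gluing' V W iUV (by
    intro x hx
    rcases hW hx with h | h
    · exact Opens.mem_iSup.mpr ⟨false, h⟩
    · exact Opens.mem_iSup.mpr ⟨true, h⟩) sf (by
    intro i j
    by_cases hij : i = j
    · subst hij
      have : Opens.infLELeft (V i) (V i) = Opens.infLERight (V i) (V i) := Subsingleton.elim _ _
      rw [this]
    · refine TopCat.Presheaf.section_ext X.sheaf (V i ⊓ V j) _ _ (fun x hx => ?_)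
      have h1 : x ∈ P ⊓ Q := by
        cases i <;> cases j
        · exact (hij rfl).elim
        · exact hx
        · exact ⟨hx.2, hx.1⟩
        · exact (hij rfl).elim
      rw [hPQ] at h1
      exact h1.elim)
  have key : ∀ z : X.presheaf.obj (op W), X.presheaf.map (homOfLE hPW).op z = 0 →
      X.presheaf.map (homOfLE hQW).op z = 1 →
      (∀ (x : X) (hx : x ∈ P), X.presheaf.germ W x (hPW hx) z = 0) ∧
      ∀ (x : X) (hx : x ∈ Q), X.presheaf.germ W x (hQW hx) z = 1 := by
    intro z h1 h2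
    refine ⟨fun x hx => ?_, fun x hx => ?_⟩
    · rw [← TopCat.Presheaf.germ_res_apply X.presheaf (homOfLE hPW) x hx, h1, map_zero]
    · rw [← TopCat.Presheaf.germ_res_apply X.presheaf (homOfLE hQW) x hx, h2, map_one]
  exact ⟨z, key z (hz false) (hz true)⟩

variable (R : Type u) [CommRing R] [IsDomain R] [IsIntegrallyClosed R] (K : Type u) [Field K] [CharZero K]
    [IsAlgClosed K] [Algebra R K] [FaithfulSMul R K] [Algebra.IsAlgebraic R K] (a₁ a₂ a₃ : R)

omit [IsDomain R] [IsIntegrallyClosed R] [CharZero K] [IsAlgClosed K] in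
theorem isFractionRing : IsFractionRing (integralClosure R K) K :=
  integralClosure.isFractionRing_of_algebraic (fun _ hx =>
    (map_eq_zero_iff _ (FaithfulSMul.algebraMap_injective R K)).mp hx)

omit [IsDomain R] [IsIntegrallyClosed R] [CharZero K] [IsAlgClosed K] in
theorem isIntegrallyClosed : IsIntegrallyClosed (integralClosure R K) :=
  have := isFractionRing R K
  (isIntegrallyClosed_iff_isIntegrallyClosedIn K).mpr inferInstance

open K75 in
/-- `H¹` of the structure sheaf of the affine Henselian spectrum of the absolute integral closure along a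
triangle. -/
theorem nontrivial_H1 (h1 : (Ideal.span {a₁}).IsPrime) (h2 : (Ideal.span {a₂}).IsPrime)
    (h3 : (Ideal.span {a₃}).IsPrime) (h123 : ∀ q : Ideal R, q.IsPrime → a₁ ∈ q → a₂ ∈ q → a₃ ∈ q → False)
    (h12 : ∃ q : Ideal R, q.IsPrime ∧ a₁ ∈ q ∧ a₂ ∈ q) (h13 : ∃ q : Ideal R, q.IsPrime ∧ a₁ ∈ q ∧ a₃ ∈ q)
    (h23 : ∃ q : Ideal R, q.IsPrime ∧ a₂ ∈ q ∧ a₃ ∈ q)
    (X : LocallyRingedSpace.{u}) (π : X ⟶ HensSch.specLRS (integralClosure R K))
    (hX : HensSch.IsSph (integralClosure R K)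
      ((Ideal.span {a₁ * a₂ * a₃}).map (algebraMap R (integralClosure R K))) X π) :
    Nontrivial (ModSite.HC X.sheaf (ModSite.unit X.sheaf) 1) := by
  classical
  by_contra hcon
  rw [not_nontrivial_iff_subsingleton] at hcon
  let A := integralClosure R K
  have := isFractionRing R K
  have := isIntegrallyClosed R K
  let b₁ : A := algebraMap R A a₁
  let b₂ : A := algebraMap R A a₂
  let b₃ : A := algebraMap R A a₃
  let ρ : X → PrimeSpectrum R := fun x => PrimeSpectrum.comap (algebraMap R A) (π.base x)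
  have hρ (x : X) (a : R) : ρ x ∈ PrimeSpectrum.zeroLocus {a} ↔ algebraMap R A a ∈ (π.base x).asIdeal := by
    rw [PrimeSpectrum.mem_zeroLocus, Set.singleton_subset_iff]; rfl
  -- the cocycle
  let W₁ : Opens X := HensSch.dOpen π b₂ ⊔ HensSch.dOpen π b₃
  let W₂ : Opens X := HensSch.dOpen π b₁ ⊔ HensSch.dOpen π b₃
  have hno (x : X) (hx1 : b₁ ∈ (π.base x).asIdeal) (hx2 : b₂ ∈ (π.base x).asIdeal)
      (hx3 : b₃ ∈ (π.base x).asIdeal) : False :=
    h123 ((π.base x).asIdeal.comap (algebraMap R A)) ((π.base x).2.comap _) hx1 hx2 hx3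
  have hall (x : X) : b₁ ∈ (π.base x).asIdeal ∨ b₂ ∈ (π.base x).asIdeal ∨ b₃ ∈ (π.base x).asIdeal := by
    have h := le_asIdeal hX x (Ideal.mem_map_of_mem _ (Ideal.mem_span_singleton_self (a₁ * a₂ * a₃)))
    rw [map_mul, map_mul] at h
    rcases (π.base x).2.mem_or_mem h with h | h
    · rcases (π.base x).2.mem_or_mem h with h | h
      · exact Or.inl h
      · exact Or.inr (Or.inl h)
    · exact Or.inr (Or.inr h)
  have hW : W₁ ⊔ W₂ = ⊤ := by
    rw [eq_top_iff]
    intro x _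
    by_cases hx3 : b₃ ∈ (π.base x).asIdeal
    · by_cases hx2 : b₂ ∈ (π.base x).asIdeal
      · have hx1 : b₁ ∉ (π.base x).asIdeal := fun hx1 => hno x hx1 hx2 hx3
        exact Or.inr (Or.inl hx1)
      · exact Or.inl (Or.inl hx2)
    · exact Or.inl (Or.inr hx3)
  let P : Opens X := HensSch.dOpen π b₃
  let Q : Opens X := HensSch.dOpen π b₁ ⊓ HensSch.dOpen π b₂
  have hPQ : P ⊓ Q = ⊥ := by
    rw [eq_bot_iff]
    rintro x ⟨hx3, hx1, hx2⟩
    rcases hall x with h | h | h
    · exact (hx1 h).elim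
    · exact (hx2 h).elim
    · exact (hx3 h).elim
  have hPW : P ≤ W₁ ⊓ W₂ := fun x hx => ⟨Or.inr hx, Or.inr hx⟩
  have hQW : Q ≤ W₁ ⊓ W₂ := fun x hx => ⟨Or.inl hx.2, Or.inl hx.1⟩
  have hWPQ : W₁ ⊓ W₂ ≤ P ⊔ Q := by
    rintro x ⟨hx | hx, hx' | hx'⟩
    · exact Or.inr ⟨hx', hx⟩
    · exact Or.inl hx'
    · exact Or.inl hx
    · exact Or.inl hx
  obtain ⟨z, hz0, hz1⟩ := exists_glue X (W₁ ⊓ W₂) P Q hPW hQW hWPQ hPQ
  obtain ⟨s, t, hst⟩ := MV1.exists_sub_of_subsingleton (ModSite.toAb (ModSite.unit X.sheaf)) W₁ W₂ hW hcon z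
  have key : ∀ (s : X.presheaf.obj (op W₁)) (t : X.presheaf.obj (op W₂)),
      X.presheaf.map (homOfLE (inf_le_left : W₁ ⊓ W₂ ≤ W₁)).op s -
        X.presheaf.map (homOfLE (inf_le_right : W₁ ⊓ W₂ ≤ W₂)).op t = z → False := by
    clear hst s t hcon
    intro s t hst
    -- a rational-valued functional
    obtain ⟨l, hl⟩ := (Algebra.linearMap ℚ K).exists_leftInverse_of_injective
      (LinearMap.ker_eq_bot.mpr (algebraMap ℚ K).injective)
    have hl1 : l 1 = 1 := by
      have := congrArg (fun k => k (1 : ℚ)) hl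
      simpa using this
    let f₁ : X → ℚ := fun x => if hx : x ∈ W₁ then l (val hX K x (X.presheaf.germ W₁ x hx s)) else 0
    let f₂ : X → ℚ := fun x => if hx : x ∈ W₂ then l (val hX K x (X.presheaf.germ W₂ x hx t)) else 0
    have e₁ (x : X) (hx : x ∈ W₁) : f₁ x = l (val hX K x (X.presheaf.germ W₁ x hx s)) := dif_pos hx
    have e₂ (x : X) (hx : x ∈ W₂) : f₂ x = l (val hX K x (X.presheaf.germ W₂ x hx t)) := dif_pos hx
    have e₃ (x : X) (hx : x ∈ W₁ ⊓ W₂) : f₁ x - f₂ x = l (val hX K x (X.presheaf.germ (W₁ ⊓ W₂) x hx z)) := by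
      have hg : X.presheaf.germ (W₁ ⊓ W₂) x hx z = X.presheaf.germ W₁ x hx.1 s - X.presheaf.germ W₂ x hx.2 t := by
        rw [← hst]
        refine (map_sub _ _ _).trans ?_
        rw [TopCat.Presheaf.germ_res_apply, TopCat.Presheaf.germ_res_apply]
      rw [e₁ x hx.1, e₂ x hx.2, hg, map_sub, map_sub]
    have hS (a : R) : IsClosed (PrimeSpectrum.zeroLocus {a}) := PrimeSpectrum.isClosed_zeroLocus _
    have hSirr (a : R) (ha : (Ideal.span {a}).IsPrime) : IsPreirreducible (PrimeSpectrum.zeroLocus {a}) := by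
      rw [← PrimeSpectrum.zeroLocus_span]
      exact ((PrimeSpectrum.isIrreducible_zeroLocus_iff_of_radical _ ha.isRadical).mpr ha).isPreirreducible
    have hemb : IsClosedEmbedding π.base := ⟨hX.1, by rw [hX.2.1]; exact PrimeSpectrum.isClosed_zeroLocus _⟩
    have : CompactSpace X := hemb.compactSpace
    have hρc : Continuous ρ := (PrimeSpectrum.continuous_comap _).comp hemb.continuous
    have hint : (algebraMap R A).IsIntegral := algebraMap_isIntegral_iff.mpr inferInstance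
    have hρcl : IsClosedMap ρ := (PrimeSpectrum.isClosedMap_comap_of_isIntegral _ hint).comp hemb.isClosedMap
    have : FaithfulSMul R A := by
      rw [faithfulSMul_iff_algebraMap_injective]
      have h := FaithfulSMul.algebraMap_injective R K
      rw [IsScalarTower.algebraMap_eq R A K, RingHom.coe_comp] at h
      exact Function.Injective.of_comp h
    have hop : IsOpenMap (PrimeSpectrum.comap (algebraMap R A)) :=
      Groth.Agent.Ega43.NormalOpen.isOpenMap_comap_of_isIntegral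
    have hsj : Function.Surjective (PrimeSpectrum.comap (algebraMap R A)) :=
      Groth.Agent.Ega43.NormalOpen.comap_surjective_of_isIntegral (by
        rw [(RingHom.injective_iff_ker_eq_bot _).mp (FaithfulSMul.algebraMap_injective R A)]; exact bot_le)
    have hrange (w : PrimeSpectrum A) (hw : PrimeSpectrum.comap (algebraMap R A) w ∈
        PrimeSpectrum.zeroLocus {a₁} ∪ PrimeSpectrum.zeroLocus {a₂} ∪ PrimeSpectrum.zeroLocus {a₃}) :
        ∃ x : X, π.base x = w := by
      apply exists_point hX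
      rw [Ideal.map_span, Set.image_singleton, Ideal.span_singleton_le_iff_mem, map_mul, map_mul]
      rcases hw with (hw | hw) | hw
      · have hw' : b₁ ∈ w.asIdeal := hw rfl
        exact Ideal.mul_mem_right _ _ (Ideal.mul_mem_right _ _ hw')
      · have hw' : b₂ ∈ w.asIdeal := hw rfl
        exact Ideal.mul_mem_right _ _ (Ideal.mul_mem_left _ _ hw')
      · have hw' : b₃ ∈ w.asIdeal := hw rfl
        exact Ideal.mul_mem_left _ _ hw'
    obtain ⟨q₁₂, hq₁₂, h12a, h12b⟩ := h12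
    obtain ⟨q₁₃, hq₁₃, h13a, h13b⟩ := h13
    obtain ⟨q₂₃, hq₂₃, h23a, h23b⟩ := h23
    refine Loop.false_of (ρ := ρ) hρc hρcl (hS a₁) (hS a₂) (hS a₃) ?_ (hSirr a₃ h3).isPreconnected ?_ ?_
      (v₁₃ := ⟨q₁₃, hq₁₃⟩) (v₂₃ := ⟨q₂₃, hq₂₃⟩) ?_ ?_ ?_ f₁ f₂ ?_ ?_ ?_ ?_
    · exact IsPreconnected.union ⟨q₁₂, hq₁₂⟩ (by simpa using h12a) (by simpa using h12b)
        (hSirr a₁ h1).isPreconnected (hSirr a₂ h2).isPreconnected
    · -- openness
      intro U hU S hSc hSS
      obtain ⟨V, hV, rfl⟩ := hemb.isInducing.isOpen_iff.mp hU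
      refine ⟨_, hop V hV, ?_⟩
      ext v
      constructor
      · rintro ⟨x, ⟨hxU, hxS⟩, rfl⟩
        exact ⟨⟨_, hxU, rfl⟩, hxS⟩
      · rintro ⟨⟨w, hw, rfl⟩, hvS⟩
        obtain ⟨x, rfl⟩ := hrange w (hSS hvS)
        exact ⟨x, ⟨hw, hvS⟩, rfl⟩
    · intro x hx1 hx2 hx3
      exact hno x ((hρ x _).mp hx1) ((hρ x _).mp hx2) ((hρ x _).mp hx3)
    · exact ⟨by simpa using h13a, by simpa using h13b⟩
    · exact ⟨by simpa using h23a, by simpa using h23b⟩
    · obtain ⟨w, hw⟩ := hsj ⟨q₁₃, hq₁₃⟩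
      obtain ⟨x, hx⟩ := hrange w (by rw [hw]; exact Or.inr (by simpa using h13b))
      exact ⟨x, by rw [← hw, ← hx]⟩
    · intro x hx
      have hxW : x ∈ W₁ := by
        rw [hρ, hρ, not_and_or] at hx
        exact hx
      obtain ⟨V, hVW, hxV, hV⟩ := val_locally_constant hX K W₁ s x hxW
      refine ⟨V, V.2, hxV, fun y hy => ⟨?_, ?_⟩⟩
      · rw [hρ, hρ, not_and_or]
        exact hVW hy
      · rw [e₁ y (hVW hy), e₁ x hxW, hV y hy]
    · intro x hx
      have hxW : x ∈ W₂ := by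
        rw [hρ, hρ, not_and_or] at hx
        exact hx
      obtain ⟨V, hVW, hxV, hV⟩ := val_locally_constant hX K W₂ t x hxW
      refine ⟨V, V.2, hxV, fun y hy => ⟨?_, ?_⟩⟩
      · rw [hρ, hρ, not_and_or]
        exact hVW hy
      · rw [e₂ y (hVW hy), e₂ x hxW, hV y hy]
    · intro x hx
      rw [hρ] at hx
      have h := e₃ x (hPW hx)
      rw [hz0 x hx, map_zero, map_zero] at h
      exact sub_eq_zero.mp h
    · intro x hx1 hx2
      rw [hρ] at hx1 hx2
      have h := e₃ x (hQW ⟨hx1, hx2⟩)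
      rw [hz1 x ⟨hx1, hx2⟩, map_one, hl1] at h
      linarith
  exact key s t hst

end K75.H1Sph
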