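import Groth.Agent.HensSch.K941.HensAway
import Mathlib.AlgebraicGeometry.AffineScheme

/-!
# Maps from the rings of sections of a henselian spectrum to algebras killed by the ideal
-/

set_option autoImplicit false
universe u
open CategoryTheory AlgebraicGeometry Opposite TopologicalSpace

namespace K75.Kappa

variable {A : Type u} [CommRing A] {I : Ideal A} {f : A} {B : Type u} [CommRing B] {φ : A →+* B}

theorem henselianRing_bot (C : Type u) [CommRing C] : HenselianRing C (⊥ : Ideal C) := by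
  constructor
  · exact bot_le
  · intro f _ a h1 _
    exact ⟨a, h1, by simp⟩

theorem existsUnique_kappa (h : HensSch.IsHensAway A I f B φ) {C : Type u} [CommRing C] (a : A →+* C)
    (ha : ∀ x ∈ I, a x = 0) (hf : IsUnit (a f)) : ∃! κ : B →+* C, κ.comp φ = a :=
  h.2.2 C ⊥ a (henselianRing_bot C) (by
    rw [Ideal.map_le_iff_le_comap]
    intro x hx
    rw [Ideal.mem_comap, ha x hx]
    exact Ideal.zero_mem _) hf

theorem surjective_kappa (h : HensSch.IsHensAway A I f B φ) {C : Type u} [CommRing C] (κ : B →+* C)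
    (hC : ∀ c : C, ∃ (x : A) (n : ℕ), κ (φ f) ^ n * c = κ (φ x)) : Function.Surjective κ := by
  intro c
  obtain ⟨x, n, hx⟩ := hC c
  obtain ⟨v, hv⟩ := (h.1.pow n).exists_left_inv
  refine ⟨v * φ x, ?_⟩
  rw [map_mul, ← hx, ← map_pow, ← mul_assoc, ← map_mul, hv, map_one, one_mul]

theorem ker_kappa (h : HensSch.IsHensAway A I f B φ) {C : Type u} [CommRing C] (κ : B →+* C)
    (h0 : ∀ x ∈ I, κ (φ x) = 0) (hC : ∀ x : A, κ (φ x) = 0 → ∃ n : ℕ, f ^ n * x ∈ I) :
    RingHom.ker κ = I.map φ := by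
  have h1 : I.map φ ≤ RingHom.ker κ := by
    rw [Ideal.map_le_iff_le_comap]
    intro x hx
    exact h0 x hx
  refine le_antisymm ?_ h1
  intro s hs
  obtain ⟨a, n, ha⟩ := K941.HensAway.exists_pow_mul_sub_mem h s
  have h2 : κ (φ a) = 0 := by
    have h3 := h1 ha
    rw [RingHom.mem_ker, map_sub, map_mul, (RingHom.mem_ker).1 hs, mul_zero, zero_sub, neg_eq_zero] at h3
    exact h3
  obtain ⟨m, hm⟩ := hC a h2
  have h4 : φ f ^ (m + n) * s ∈ I.map φ := by
    have h5 := Ideal.mul_mem_left (I.map φ) (φ f ^ m) ha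
    have h6 := Ideal.mem_map_of_mem φ hm
    have h7 : φ f ^ (m + n) * s = φ f ^ m * (φ f ^ n * s - φ a) + φ (f ^ m * a) := by
      rw [map_mul, map_pow]; ring
    rw [h7]
    exact Ideal.add_mem _ h5 h6
  obtain ⟨v, hv⟩ := (h.1.pow (m + n)).exists_left_inv
  have h8 := Ideal.mul_mem_left _ v h4
  rwa [← mul_assoc, hv, one_mul] at h8

/-- The ring map attached to a morphism to an affine scheme. -/
noncomputable def rm {T : Scheme.{u}} {R : Type u} [CommRing R] (v : T ⟶ Spec (CommRingCat.of R)) :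
    R →+* Γ(T, ⊤) := ((Scheme.ΓSpecIso (CommRingCat.of R)).inv ≫ v.appTop).hom

theorem eq_of_rm {T : Scheme.{u}} {R : Type u} [CommRing R] {v v' : T ⟶ Spec (CommRingCat.of R)}
    (h : rm v = rm v') : v = v' := by
  apply ext_of_isAffine
  have h1 : (Scheme.ΓSpecIso (CommRingCat.of R)).inv ≫ v.appTop =
      (Scheme.ΓSpecIso (CommRingCat.of R)).inv ≫ v'.appTop := CommRingCat.hom_ext h
  rwa [cancel_epi] at h1

theorem rm_comp_specMap {T : Scheme.{u}} {R S : Type u} [CommRing R] [CommRing S] (φ : R →+* S)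
    (v : T ⟶ Spec (CommRingCat.of S)) : rm (v ≫ Spec.map (CommRingCat.ofHom φ)) = (rm v).comp φ := by
  unfold rm
  rw [Scheme.Hom.comp_appTop, ← Category.assoc, ← Scheme.ΓSpecIso_inv_naturality, Category.assoc]
  rfl

theorem rm_toSpecΓ {T : Scheme.{u}} {S : Type u} [CommRing S] (κ : S →+* Γ(T, ⊤)) :
    rm (T.toSpecΓ ≫ Spec.map (CommRingCat.ofHom κ)) = κ := by
  unfold rm
  rw [Scheme.Hom.comp_appTop, ← Category.assoc, ← Scheme.ΓSpecIso_inv_naturality, Category.assoc,
    Scheme.toSpecΓ_appTop, Iso.inv_hom_id, Category.comp_id]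
  rfl

theorem comp_rm {T T' : Scheme.{u}} {R : Type u} [CommRing R] (r : T' ⟶ T)
    (v : T ⟶ Spec (CommRingCat.of R)) : rm (r ≫ v) = r.appTop.hom.comp (rm v) := by
  unfold rm
  rw [Scheme.Hom.comp_appTop, ← Category.assoc]
  rfl

section

variable (h : HensSch.IsHensAway A I f B φ)

include h in
/-- Morphisms to the spectrum of the ring of sections from a scheme over the closed subset are unique. -/
theorem hom_ext {T : Scheme.{u}} (k k' : T ⟶ Spec (CommRingCat.of B)) (v : T ⟶ Spec (CommRingCat.of (A ⧸ I)))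
    (w : k ≫ Spec.map (CommRingCat.ofHom φ) = v ≫ Spec.map (CommRingCat.ofHom (Ideal.Quotient.mk I)))
    (w' : k' ≫ Spec.map (CommRingCat.ofHom φ) = v ≫ Spec.map (CommRingCat.ofHom (Ideal.Quotient.mk I))) :
    k = k' := by
  have key : ∀ k : T ⟶ Spec (CommRingCat.of B),
      k ≫ Spec.map (CommRingCat.ofHom φ) = v ≫ Spec.map (CommRingCat.ofHom (Ideal.Quotient.mk I)) →
      (rm k).comp φ = (rm v).comp (Ideal.Quotient.mk I) := by
    intro k hk
    rw [← rm_comp_specMap, ← rm_comp_specMap, hk]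
  have hu : IsUnit (((rm v).comp (Ideal.Quotient.mk I)) f) := by
    rw [← key k w]
    exact h.1.map (rm k)
  exact eq_of_rm ((existsUnique_kappa h ((rm v).comp (Ideal.Quotient.mk I)) (fun x hx => by
    rw [RingHom.comp_apply, Ideal.Quotient.eq_zero_iff_mem.2 hx, map_zero]) hu).unique (key k w) (key k' w'))

include h in
/-- Existence of morphisms to the spectrum of the ring of sections. -/
theorem exists_hom {T : Scheme.{u}} (v : T ⟶ Spec (CommRingCat.of (A ⧸ I)))
    (hv : IsUnit (rm v (Ideal.Quotient.mk I f))) :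
    ∃ κ : B →+* Γ(T, ⊤), κ.comp φ = (rm v).comp (Ideal.Quotient.mk I) ∧
      (T.toSpecΓ ≫ Spec.map (CommRingCat.ofHom κ)) ≫ Spec.map (CommRingCat.ofHom φ) =
        v ≫ Spec.map (CommRingCat.ofHom (Ideal.Quotient.mk I)) := by
  obtain ⟨κ, hκ, -⟩ := existsUnique_kappa h ((rm v).comp (Ideal.Quotient.mk I)) (fun x hx => by
    rw [RingHom.comp_apply, Ideal.Quotient.eq_zero_iff_mem.2 hx, map_zero]) hv
  refine ⟨κ, hκ, ?_⟩
  apply eq_of_rm
  rw [rm_comp_specMap φ, rm_toSpecΓ, rm_comp_specMap]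
  exact hκ

end

section

variable {R : CommRingCat.{u}}

set_option backward.isDefEq.respectTransparency.types false in
theorem topIso_rm (U : (Spec R).Opens) (x : R) :
    U.topIso.hom.hom (rm (R := R) U.ι x) = (algebraMap R Γ(Spec R, U)) x := by
  unfold rm
  have h : U.ι.appTop ≫ U.topIso.hom = (Spec R).presheaf.map (homOfLE le_top).op := by
    have h1 : U.ι.appTop = (Spec R).presheaf.map (homOfLE le_top).op := U.ι_appTop
    rw [h1]
    exact ((Spec R).presheaf.map_comp _ _).symm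
  exact ConcreteCategory.congr_hom h ((Scheme.ΓSpecIso R).inv.hom x)

/-- The distinguished open as an open of the spectrum. -/
noncomputable abbrev bo (f : R) : (Spec R).Opens := PrimeSpectrum.basicOpen f

theorem injective_topIso (U : (Spec R).Opens) : Function.Injective U.topIso.hom.hom := by
  intro x y h
  have h2 := congrArg U.topIso.inv.hom h
  have h3 : ∀ z, U.topIso.inv.hom (U.topIso.hom.hom z) = z := fun z =>
    ConcreteCategory.congr_hom U.topIso.hom_inv_id z
  rwa [h3, h3] at h2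

set_option backward.isDefEq.respectTransparency.types false in
theorem isUnit_rm (f : R) : IsUnit (rm (R := R) (bo f).ι f) := by
  have h1 : IsUnit (algebraMap R Γ(Spec R, PrimeSpectrum.basicOpen f) f) :=
    IsLocalization.Away.algebraMap_isUnit f
  have h2 := h1.map (bo f).topIso.inv.hom
  have h3 : (bo f).topIso.inv.hom (algebraMap R Γ(Spec R, PrimeSpectrum.basicOpen f) f) =
      rm (R := R) (bo f).ι f := by
    apply injective_topIso
    rw [topIso_rm]
    exact ConcreteCategory.congr_hom (bo f).topIso.inv_hom_id _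
  rwa [h3] at h2

set_option backward.isDefEq.respectTransparency.types false in
theorem exists_rm_eq (f : R) (c : Γ((bo f).toScheme, ⊤)) :
    ∃ (x : R) (n : ℕ), rm (R := R) (bo f).ι f ^ n * c = rm (R := R) (bo f).ι x := by
  have hloc : IsLocalization.Away f Γ(Spec R, PrimeSpectrum.basicOpen f) := inferInstance
  obtain ⟨⟨x, m⟩, hm⟩ := IsLocalization.surj (Submonoid.powers f) ((bo f).topIso.hom.hom c)
  obtain ⟨n, hn⟩ := m.2
  refine ⟨x, n, ?_⟩
  apply injective_topIso
  rw [map_mul, map_pow, topIso_rm, topIso_rm, mul_comm, ← map_pow]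
  have h2 : f ^ n = (m : R) := hn
  rw [h2]
  exact hm

set_option backward.isDefEq.respectTransparency.types false in
theorem exists_pow_of_rm_eq_zero (f : R) (x : R) (hx : rm (R := R) (bo f).ι x = 0) : ∃ n : ℕ, f ^ n * x = 0 := by
  have hloc : IsLocalization.Away f Γ(Spec R, PrimeSpectrum.basicOpen f) := inferInstance
  have h1 : (algebraMap R Γ(Spec R, PrimeSpectrum.basicOpen f)) x = 0 := by
    have := topIso_rm (bo f) x
    rw [hx, map_zero] at this
    exact this.symm
  obtain ⟨m, hm⟩ := (IsLocalization.map_eq_zero_iff (Submonoid.powers f) _ x).1 h1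
  obtain ⟨n, hn⟩ := m.2
  refine ⟨n, ?_⟩
  have h2 : f ^ n = (m : R) := hn
  rw [h2]
  exact hm

end

section

variable (h : HensSch.IsHensAway A I f B φ)

include h in
theorem exists_hom_of_loc {T : Scheme.{u}} (v : T ⟶ Spec (CommRingCat.of (A ⧸ I)))
    (h4 : IsUnit (rm v (Ideal.Quotient.mk I f)))
    (h5 : ∀ c : Γ(T, ⊤), ∃ (x : A ⧸ I) (n : ℕ), rm v (Ideal.Quotient.mk I f) ^ n * c = rm v x)
    (h6 : ∀ x : A ⧸ I, rm v x = 0 → ∃ n : ℕ, (Ideal.Quotient.mk I f) ^ n * x = 0) :
    ∃ κ : CommRingCat.of B ⟶ Γ(T, ⊤), Function.Surjective κ.hom ∧ RingHom.ker κ.hom = I.map φ ∧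
      (T.toSpecΓ ≫ Spec.map κ) ≫ Spec.map (CommRingCat.ofHom φ) =
        v ≫ Spec.map (CommRingCat.ofHom (Ideal.Quotient.mk I)) := by
  obtain ⟨κ, h1, h2⟩ := exists_hom h v h4
  have h3 : ∀ x, κ (φ x) = rm v (Ideal.Quotient.mk I x) := fun x => congrArg (fun k => k x) h1
  refine ⟨CommRingCat.ofHom κ, ?_, ?_, h2⟩
  · refine surjective_kappa h κ ?_
    intro c
    obtain ⟨x, n, hx⟩ := h5 c
    obtain ⟨x, rfl⟩ := Ideal.Quotient.mk_surjective x
    refine ⟨x, n, ?_⟩
    rw [h3, h3]
    exact hx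
  · refine ker_kappa h κ ?_ ?_
    · intro x hx
      rw [h3, Ideal.Quotient.eq_zero_iff_mem.2 hx, map_zero]
    · intro x hx
      rw [h3] at hx
      obtain ⟨n, hn⟩ := h6 _ hx
      refine ⟨n, ?_⟩
      rw [← Ideal.Quotient.eq_zero_iff_mem, map_mul, map_pow]
      exact hn

include h in
/-- The morphism from the distinguished open of the closed subscheme to the spectrum of the ring of sections, and
the properties of the corresponding ring map. -/
theorem exists_hom_basicOpen :
    ∃ κ : CommRingCat.of B ⟶ Γ((bo (R := CommRingCat.of (A ⧸ I)) (Ideal.Quotient.mk I f)).toScheme, ⊤),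
      Function.Surjective κ.hom ∧ RingHom.ker κ.hom = I.map φ ∧
      ((bo (R := CommRingCat.of (A ⧸ I)) (Ideal.Quotient.mk I f)).toScheme.toSpecΓ ≫ Spec.map κ) ≫
        Spec.map (CommRingCat.ofHom φ) = (bo (R := CommRingCat.of (A ⧸ I)) (Ideal.Quotient.mk I f)).ι ≫
          Spec.map (CommRingCat.ofHom (Ideal.Quotient.mk I)) :=
  exists_hom_of_loc h (bo (R := CommRingCat.of (A ⧸ I)) (Ideal.Quotient.mk I f)).ι
    (isUnit_rm (R := CommRingCat.of (A ⧸ I)) (Ideal.Quotient.mk I f))
    (exists_rm_eq (R := CommRingCat.of (A ⧸ I)) (Ideal.Quotient.mk I f))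
    (exists_pow_of_rm_eq_zero (R := CommRingCat.of (A ⧸ I)) (Ideal.Quotient.mk I f))

end

end K75.Kappa
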