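import Groth.Agent.Hensel.K145.Nbhd
import Groth.Agent.Pi1C.SplitIntClosure
import Mathlib.RingTheory.Localization.BaseChange

/-!
# Pair henselizations of normal domains; primes of the pair henselization over `V(I)`
-/

set_option autoImplicit false
universe u

open TensorProduct nonZeroDivisors

namespace K75.NormHens

variable {A B : Type u} [CommRing A] [CommRing B] [Algebra A B] {I : Ideal A}

theorem lazard (h : Hens2.IsPairHenselization A I B) : Groth.Agent.Pi1C.IndEtaleWE.Lazard A B := by
  intro P _ _ _ φ
  obtain ⟨R', _, _, _, _, g, hn, hg⟩ := K145.Nbhd.exists_nbhd_factor h P φ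
  exact ⟨R', inferInstance, inferInstance, hn.etale, g, IsScalarTower.toAlgHom A R' B, AlgHom.ext hg⟩

/-- The henselization of a normal domain along an ideal is normal if it is a domain algebraic over the base. -/
theorem isIntegrallyClosed (h : Hens2.IsPairHenselization A I B) [IsDomain A] [IsDomain B] [IsIntegrallyClosed A]
    [FaithfulSMul A B] [Algebra.IsAlgebraic A B] : IsIntegrallyClosed B := by
  let K := FractionRing A
  let L := FractionRing B
  let _ : Algebra K L := FractionRing.liftAlgebra A L
  have : IsScalarTower A K L := FractionRing.isScalarTower_liftAlgebra A L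
  have : Algebra.IsPushout A B K L := Algebra.isPushout_of_isLocalization (S := A⁰) (R := A) (T := B) (A := K) (B := L)
  refine (isIntegrallyClosed_iff L).mpr fun {x} hx => ?_
  exact Groth.Agent.Pi1C.SplitIntClosure.exists_algebraMap_of_isIntegral (K := K) (lazard h) x hx

/-- The retraction `B → A/I` of the pair henselization. -/
theorem exists_retraction (h : Hens2.IsPairHenselization A I B) :
    ∃ θ : B →+* A ⧸ I, θ.comp (algebraMap A B) = Ideal.Quotient.mk I ∧ RingHom.ker θ = I.map (algebraMap A B) := by
  have hb := Groth.Agent.Etalg.PairHens2.quot_bijective B h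
  let e := RingEquiv.ofBijective _ hb
  refine ⟨e.symm.toRingHom.comp (Ideal.Quotient.mk _), ?_, ?_⟩
  · ext a
    simp only [RingEquiv.toRingHom_eq_coe, RingHom.coe_comp, RingHom.coe_coe, Function.comp_apply]
    rw [RingEquiv.symm_apply_eq]
    rfl
  · ext x
    rw [RingHom.mem_ker, RingEquiv.toRingHom_eq_coe, RingHom.comp_apply, RingHom.coe_coe,
      map_eq_zero_iff _ e.symm.injective, Ideal.Quotient.eq_zero_iff_mem]

/-- Primes containing `I` extend to primes of the pair henselization. -/
theorem isPrime_map (h : Hens2.IsPairHenselization A I B) (q : Ideal A) [q.IsPrime] (hq : I ≤ q) :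
    (q.map (algebraMap A B)).IsPrime ∧ (q.map (algebraMap A B)).comap (algebraMap A B) = q := by
  obtain ⟨θ, hθ, hker⟩ := exists_retraction h
  have hp : (q.map (Ideal.Quotient.mk I)).IsPrime :=
    Ideal.map_isPrime_of_surjective Ideal.Quotient.mk_surjective (by rw [Ideal.mk_ker]; exact hq)
  have hcm : (q.map (Ideal.Quotient.mk I)).comap (Ideal.Quotient.mk I) = q := by
    rw [Ideal.comap_map_of_surjective' _ Ideal.Quotient.mk_surjective, Ideal.mk_ker, sup_eq_left]
    exact hq
  have hsurj : Function.Surjective θ := by
    intro x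
    obtain ⟨a, rfl⟩ := Ideal.Quotient.mk_surjective x
    exact ⟨algebraMap A B a, congrArg (fun k => k a) hθ⟩
  have hmap : q.map (algebraMap A B) = (q.map (Ideal.Quotient.mk I)).comap θ := by
    apply le_antisymm
    · rw [Ideal.map_le_iff_le_comap, Ideal.comap_comap, hθ]
      exact Ideal.le_comap_map
    · intro x hx
      obtain ⟨a, ha⟩ := Ideal.Quotient.mk_surjective (θ x)
      rw [Ideal.mem_comap, ← ha] at hx
      have haq : a ∈ q := by
        have : a ∈ (q.map (Ideal.Quotient.mk I)).comap (Ideal.Quotient.mk I) := hx
        rwa [hcm] at this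
      have h1 : x - algebraMap A B a ∈ I.map (algebraMap A B) := by
        rw [← hker, RingHom.mem_ker, map_sub, ← RingHom.comp_apply, hθ, ha, sub_self]
      have h2 : x = (x - algebraMap A B a) + algebraMap A B a := by ring
      rw [h2]
      exact Ideal.add_mem _ (Ideal.map_mono hq h1) (Ideal.mem_map_of_mem _ haq)
  rw [hmap]
  refine ⟨hp.comap θ, ?_⟩
  rw [Ideal.comap_comap, hθ, hcm]

end K75.NormHens
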