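import Groth.Agent.Pi1C.IndEtaleIC
import Groth.Agent.HensSch.K75.NormHens
import Groth.Agent.HensSch.K941.HensAway
import Groth.Agent.Sga4h.EtLim

/-!
# The rings of the henselian spectrum are ind-étale
-/

set_option autoImplicit false
universe u
open TensorProduct CategoryTheory CategoryTheory.Limits AlgebraicGeometry

namespace K75.LazComp

open Groth.Agent.Pi1C.IndEtaleWE

theorem lazard_comp {R R' S : Type u} [CommRing R] [CommRing R'] [CommRing S] [Algebra R R'] [Algebra R' S]
    [Algebra R S] [IsScalarTower R R' S] [Algebra.Etale R R'] (h : Lazard R' S) : Lazard R S := by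
  intro P _ _ _ φ
  let φ' : R' ⊗[R] P →ₐ[R'] S := Algebra.TensorProduct.lift (Algebra.ofId R' S) φ (fun _ _ => Commute.all _ _)
  obtain ⟨E, _, _, _, ψ, χ, hχ⟩ := h _ φ'
  let _ : Algebra R E := ((algebraMap R' E).comp (algebraMap R R')).toAlgebra
  have _ : IsScalarTower R R' E := IsScalarTower.of_algebraMap_eq fun r => rfl
  have hE : Algebra.Etale R E := Algebra.Etale.comp R R' E
  refine ⟨E, inferInstance, inferInstance, hE,
    (ψ.restrictScalars R).comp Algebra.TensorProduct.includeRight, χ.restrictScalars R, ?_⟩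
  ext x
  have h1 := congrArg (fun k => k ((1 : R') ⊗ₜ[R] x)) hχ
  refine h1.trans ?_
  change Algebra.TensorProduct.lift (Algebra.ofId R' S) φ _ ((1 : R') ⊗ₜ[R] x) = φ x
  rw [Algebra.TensorProduct.lift_tmul, map_one, one_mul]

theorem isIndEtale_of_lazard {R S : Type u} [CommRing R] [CommRing S] [Algebra R S] (h : Lazard R S) :
    EtPBC.IsIndEtale R S := by
  rw [Groth.Agent.Proet.IndEtale.isIndEtale_iff_factor]
  intro Z _ _ hZ g
  obtain ⟨E, i1, i2, i3, ψ, χ, hχ⟩ := h Z g
  exact ⟨E, i1, i2, ψ, χ, i3, hχ⟩

section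

variable {A : Type u} [CommRing A] {I : Ideal A} {f : A} {B : Type u} [CommRing B] {φ : A →+* B}

theorem lazard_of_isHensAway (h : HensSch.IsHensAway A I f B φ) {R : Type u} [CommRing R] (ι : R ≃+* A) :
    @Lazard R B _ _ (φ.comp ι.toRingHom).toAlgebra := by
  let _ := (K941.HensAway.locMap h.1).toAlgebra
  have h1 := K75.NormHens.lazard (K941.HensAway.isPairHenselization h)
  let _ : Algebra R B := (φ.comp ι.toRingHom).toAlgebra
  let _ : Algebra R A := ι.toRingHom.toAlgebra
  have _ : IsScalarTower R (Localization.Away f) B := IsScalarTower.of_algebraMap_eq fun r => by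
    rw [IsScalarTower.algebraMap_apply R A (Localization.Away f)]
    exact (K941.HensAway.locMap_algebraMap h.1 (ι r)).symm
  have e1 : Algebra.Etale R A := by
    have h2 : Function.Bijective (algebraMap R A) := ι.bijective
    exact Algebra.Etale.of_equiv (AlgEquiv.ofBijective (Algebra.ofId R A) h2)
  have e2 : Algebra.Etale A (Localization.Away f) := Algebra.Etale.of_isLocalizationAway f
  have e3 : Algebra.Etale R (Localization.Away f) := Algebra.Etale.comp R A (Localization.Away f)
  exact lazard_comp h1

theorem isEtLim_of_isHensAway (h : HensSch.IsHensAway A I f B φ) :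
    Groth.Agent.Sga4h.EtLim.IsEtLim (Spec.map (CommRingCat.ofHom φ)) := by
  let _ := (K941.HensAway.locMap h.1).toAlgebra
  have h1 := isIndEtale_of_lazard (K75.NormHens.lazard (K941.HensAway.isPairHenselization h))
  have h2 := Groth.Agent.Sga4h.EtLim.isEtLim_of_isIndEtale h1
    (Spec.map (CommRingCat.ofHom (algebraMap A (Localization.Away f))))
  rw [← Spec.map_comp] at h2
  have e : CommRingCat.ofHom (algebraMap A (Localization.Away f)) ≫
      CommRingCat.ofHom (algebraMap (Localization.Away f) B) = CommRingCat.ofHom φ := by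
    rw [← CommRingCat.ofHom_comp]
    exact congrArg CommRingCat.ofHom (K941.HensAway.locMap_comp h.1)
  rw [e] at h2
  exact h2

end

end K75.LazComp
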