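import Groth.Agent.FormalB.OpenMV
import Groth.Agent.CohqA.SheafHLocal

/-!
# Vanishing of `H¹` and Čech cocycles for a covering by two open sets
-/

set_option autoImplicit false
universe u

open CategoryTheory TopologicalSpace Opposite

namespace K75.MV1

open Groth.Agent.CohqA Groth.Agent.FormalB

/-- If `H¹(X, F) = 0` and `X = A ∪ B`, every section over `A ∩ B` is a difference of sections over `A` and `B`. -/
theorem exists_sub_of_subsingleton {X : TopCat.{u}} (F : CohTop.Ab X) (A B : Opens X) (hAB : A ⊔ B = ⊤)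
    (h : Subsingleton (Sheaf.H F 1)) (z : F.obj.obj (op (A ⊓ B))) :
    ∃ (a : F.obj.obj (op A)) (b : F.obj.obj (op B)),
      F.obj.map (homOfLE (inf_le_left : A ⊓ B ≤ A)).op a - F.obj.map (homOfLE (inf_le_right : A ⊓ B ≤ B)).op b = z := by
  have hsub : Subsingleton (SheafH.HU F 1 (⊤ : Opens X)) :=
    (SheafH.HEquivHU F 1 Limits.isTerminalTop).symm.toEquiv.subsingleton
  obtain ⟨a, b, hab⟩ := OpenMV.exists_of_δ_eq_zero F (W := ⊤) hAB.symm rfl 0 inf_le_left inf_le_right
    ((SheafH.H0 F (A ⊓ B)).symm z) (Subsingleton.elim _ _)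
  refine ⟨SheafH.H0 F A a, SheafH.H0 F B b, ?_⟩
  have := congrArg (SheafH.H0 F (A ⊓ B)) hab
  rw [AddEquiv.apply_symm_apply, map_sub] at this
  rw [← this, SheafH.H0_res, SheafH.H0_res]

end K75.MV1
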