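import Groth.Agent.HensSch.K75.AlgSide
import Groth.Agent.Desc.EtAssocQC

/-!
# Sections of inverse images of a quasi-coherent module on étale affine schemes
-/

set_option autoImplicit false
universe u
open CategoryTheory CategoryTheory.Limits AlgebraicGeometry Opposite

namespace K75.ModSide

open Groth.Agent.Desc.EtAssocPb Groth.Agent.Desc.EtAssocQC Groth.Agent.CohqA.BaseChangeMod K75.AlgSide
open Groth.Agent.Pi1C.IndEtaleWE

variable {X Y Y' : Scheme.{u}} (F : X.Modules)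

/-- Global sections of `a^* F`. -/
abbrev MT (a : Y ⟶ X) : Type u := Γ((Scheme.Modules.pullback a).obj F, ⊤)

/-- The ring map attached to a morphism from the spectrum of `S`. -/
noncomputable def chi {S : Type u} [CommRing S] (t : Spec (CommRingCat.of S) ⟶ Y) : Γ(Y, ⊤) →+* S :=
  (t.appTop ≫ (Scheme.ΓSpecIso (CommRingCat.of S)).hom).hom

theorem chi_comp {S : Type u} [CommRing S] (t : Spec (CommRingCat.of S) ⟶ Y) (a : Y ⟶ X) :
    chi (t ≫ a) = (chi t).comp a.appTop.hom := by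
  unfold chi
  rw [Scheme.Hom.comp_appTop, Category.assoc]
  rfl

theorem chi_specMap {S S' : Type u} [CommRing S] [CommRing S'] (ρ : S →+* S')
    (t : Spec (CommRingCat.of S) ⟶ Y) :
    chi (Spec.map (CommRingCat.ofHom ρ) ≫ t) = ρ.comp (chi t) := by
  unfold chi
  rw [Scheme.Hom.comp_appTop, Category.assoc, Scheme.ΓSpecIso_naturality]
  rfl

/-- Transport of sections. -/
noncomputable def trh (f : Y' ⟶ Y) (a : Y ⟶ X) (b : Y' ⟶ X) (h : f ≫ a = b) : MT F a →+ MT F b :=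
  (tr F f a b h).hom

theorem trh_trh {Y'' : Scheme.{u}} (f : Y' ⟶ Y) (g : Y'' ⟶ Y') (k : Y'' ⟶ Y) (hk : g ≫ f = k) (a : Y ⟶ X)
    (b : Y' ⟶ X) (c : Y'' ⟶ X) (h : f ≫ a = b) (h' : g ≫ b = c) (h'' : k ≫ a = c) (x : MT F a) :
    trh F g b c h' (trh F f a b h x) = trh F k a c h'' x := by
  subst hk
  unfold trh
  rw [tr_comp F g f a b c h h']
  rfl

theorem isBC_trh [F.IsQuasicoherent] (f : Y' ⟶ Y) [IsAffine Y'] [IsAffine Y] (a : Y ⟶ X) (b : Y' ⟶ X)
    (h : f ≫ a = b) : IsBC f.appTop.hom (trh F f a b h) :=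
  isBC_tr F f a b h

section

variable [IsAffine X] [F.IsQuasicoherent] {S : Type u} [CommRing S] (u : Spec (CommRingCat.of S) ⟶ X)
  {P : Type u} [AddCommGroup P] [Module S P] (ψ : MT F (𝟙 X) →+ P) (hψ : ∀ a x, ψ (a • x) = chi u a • ψ x)

include hψ in
theorem exists_dd [IsAffine Y] (a : Y ⟶ X) (t : Spec (CommRingCat.of S) ⟶ Y) (ht : t ≫ a = u) :
    ∃ d : MT F a →+ P, (∀ r x, d (r • x) = chi t r • d x) ∧
      ∀ m, d (trh F a (𝟙 X) a (Category.comp_id a) m) = ψ m := by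
  refine exists_semilinear (isBC_trh F a (𝟙 X) a (Category.comp_id a)) (chi t) ψ ?_
  intro r x
  rw [hψ, ← ht, chi_comp]
  rfl

/-- The map `Γ(Y, a^*F) → P` attached to an `X`-morphism `Spec S → Y`. -/
noncomputable def dd [IsAffine Y] (a : Y ⟶ X) (t : Spec (CommRingCat.of S) ⟶ Y) (ht : t ≫ a = u) :
    MT F a →+ P := (exists_dd F u ψ hψ a t ht).choose

theorem dd_smul [IsAffine Y] (a : Y ⟶ X) (t : Spec (CommRingCat.of S) ⟶ Y) (ht : t ≫ a = u) (r : Γ(Y, ⊤))
    (x : MT F a) : dd F u ψ hψ a t ht (r • x) = chi t r • dd F u ψ hψ a t ht x :=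
  (exists_dd F u ψ hψ a t ht).choose_spec.1 r x

theorem dd_trh_id [IsAffine Y] (a : Y ⟶ X) (t : Spec (CommRingCat.of S) ⟶ Y) (ht : t ≫ a = u)
    (m : MT F (𝟙 X)) : dd F u ψ hψ a t ht (trh F a (𝟙 X) a (Category.comp_id a) m) = ψ m :=
  (exists_dd F u ψ hψ a t ht).choose_spec.2 m

theorem dd_trh [IsAffine Y] [IsAffine Y'] (a : Y ⟶ X) (t : Spec (CommRingCat.of S) ⟶ Y) (ht : t ≫ a = u)
    (a' : Y' ⟶ X) (v : Y' ⟶ Y) (hv : v ≫ a = a') (t' : Spec (CommRingCat.of S) ⟶ Y') (ht' : t' ≫ v = t)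
    (h' : t' ≫ a' = u) (x : MT F a) :
    dd F u ψ hψ a' t' h' (trh F v a a' hv x) = dd F u ψ hψ a t ht x := by
  have h := semilinear_ext (isBC_trh F a (𝟙 X) a (Category.comp_id a)) (chi t)
    (g := (dd F u ψ hψ a' t' h').comp (trh F v a a' hv)) (g' := dd F u ψ hψ a t ht) ?_
    (dd_smul F u ψ hψ a t ht) ?_
  · exact congrArg (fun k => k x) h
  · intro r y
    change dd F u ψ hψ a' t' h' (trh F v a a' hv (r • y)) = _
    rw [(isBC_trh F v a a' hv).map_smul, dd_smul, ← ht', chi_comp]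
    rfl
  · intro m
    rw [dd_trh_id]
    change dd F u ψ hψ a' t' h' (trh F v a a' hv (trh F a (𝟙 X) a (Category.comp_id a) m)) = _
    rw [trh_trh F a v a' hv (𝟙 X) a a' (Category.comp_id a) hv (Category.comp_id a'), dd_trh_id]

theorem dd_map [IsAffine Y] (a : Y ⟶ X) (t : Spec (CommRingCat.of S) ⟶ Y) (ht : t ≫ a = u)
    {S' : Type u} [CommRing S'] (u' : Spec (CommRingCat.of S') ⟶ X) {P' : Type u} [AddCommGroup P']
    [Module S' P'] (ψ' : MT F (𝟙 X) →+ P') (hψ' : ∀ a x, ψ' (a • x) = chi u' a • ψ' x)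
    (ρ : S →+* S') (q : P →+ P') (hq : ∀ s p, q (s • p) = ρ s • q p) (hqψ : ∀ m, q (ψ m) = ψ' m)
    (t' : Spec (CommRingCat.of S') ⟶ Y) (ht' : Spec.map (CommRingCat.ofHom ρ) ≫ t = t')
    (h' : t' ≫ a = u') (x : MT F a) :
    q (dd F u ψ hψ a t ht x) = dd F u' ψ' hψ' a t' h' x := by
  have h := semilinear_ext (isBC_trh F a (𝟙 X) a (Category.comp_id a)) (chi t')
    (g := q.comp (dd F u ψ hψ a t ht)) (g' := dd F u' ψ' hψ' a t' h') ?_
    (dd_smul F u' ψ' hψ' a t' h') ?_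
  · exact congrArg (fun k => k x) h
  · intro r y
    change q (dd F u ψ hψ a t ht (r • y)) = _
    rw [dd_smul, hq, ← ht', chi_specMap]
    rfl
  · intro m
    rw [dd_trh_id]
    change q (dd F u ψ hψ a t ht (trh F a (𝟙 X) a (Category.comp_id a) m)) = _
    rw [dd_trh_id, hqψ]

end

section

variable [IsAffine X] (E : Type u) [CommRing E] [Algebra Γ(X, ⊤) E]

/-- The structure morphism of the spectrum of an algebra over the global sections. -/
noncomputable def str : Spec (CommRingCat.of E) ⟶ X :=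
  Spec.map (CommRingCat.ofHom (algebraMap Γ(X, ⊤) E)) ≫ X.isoSpec.inv

theorem etale_str [Algebra.Etale Γ(X, ⊤) E] : AlgebraicGeometry.Etale (str (X := X) E) := by
  have h : AlgebraicGeometry.Etale (Spec.map (CommRingCat.ofHom (algebraMap Γ(X, ⊤) E))) := by
    rw [HasRingHomProperty.Spec_iff (P := @AlgebraicGeometry.Etale)]
    exact RingHom.etale_algebraMap.mpr inferInstance
  unfold str
  infer_instance

end

theorem specMap_chi_isoSpec_inv [IsAffine X] {S : Type u} [CommRing S] (u : Spec (CommRingCat.of S) ⟶ X) :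
    Spec.map (CommRingCat.ofHom (chi u)) ≫ X.isoSpec.inv = u := by
  rw [Iso.comp_inv_eq]
  unfold chi
  rw [CommRingCat.ofHom_hom, Spec.map_comp, ← Scheme.isoSpec_Spec_hom]
  exact Scheme.isoSpec_hom_naturality u

theorem chi_specMap_inv {S E : Type u} [CommRing S] [CommRing E] (χ : E →+* S) (x : E) :
    chi (Spec.map (CommRingCat.ofHom χ)) ((Scheme.ΓSpecIso (CommRingCat.of E)).inv.hom x) = χ x := by
  unfold chi
  have h := Scheme.ΓSpecIso_naturality (CommRingCat.ofHom χ)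
  rw [h]
  change χ (((Scheme.ΓSpecIso (CommRingCat.of E)).inv ≫ (Scheme.ΓSpecIso (CommRingCat.of E)).hom).hom x) = χ x
  rw [Iso.inv_hom_id]
  rfl

theorem appTop_specMap_isoSpec_inv [IsAffine Y] {E : Type u} [CommRing E] (κ : Γ(Y, ⊤) →+* E) (x : Γ(Y, ⊤)) :
    (Spec.map (CommRingCat.ofHom κ) ≫ Y.isoSpec.inv).appTop.hom x =
      (Scheme.ΓSpecIso (CommRingCat.of E)).inv.hom (κ x) := by
  have h : (Spec.map (CommRingCat.ofHom κ) ≫ Y.isoSpec.inv).appTop ≫ (Scheme.ΓSpecIso (CommRingCat.of E)).hom =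
      CommRingCat.ofHom κ := by
    apply Spec.map_injective
    have h2 := specMap_chi_isoSpec_inv (Spec.map (CommRingCat.ofHom κ) ≫ Y.isoSpec.inv)
    rw [cancel_mono] at h2
    exact h2
  have h3 := (Iso.eq_comp_inv _).2 h
  rw [h3]
  rfl

section

variable [IsAffine X] [F.IsQuasicoherent] {S : Type u} [CommRing S] (u : Spec (CommRingCat.of S) ⟶ X)
  {P : Type u} [AddCommGroup P] [Module S P] (ψ : MT F (𝟙 X) →+ P)
  (hψ : ∀ (a : Γ(X, ⊤)) (x : MT F (𝟙 X)), ψ (a • x) = chi u a • ψ x)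
  (hL : @Lazard Γ(X, ⊤) S _ _ (chi u).toAlgebra) (hBC : IsBC (chi u) ψ)

include hL hBC

theorem exists_dd_eq (p : P) :
    ∃ (Y : Scheme.{u}) (_ : IsAffine Y) (a : Y ⟶ X) (_ : AlgebraicGeometry.Etale a)
      (t : Spec (CommRingCat.of S) ⟶ Y) (ht : t ≫ a = u) (x : MT F a), dd F u ψ hψ a t ht x = p := by
  let _ := (chi u).toAlgebra
  obtain ⟨E, _, _, _, χ, n, e, m, rfl⟩ := surj_factor hL hBC p
  have hE := etale_str (X := X) E
  have ht : Spec.map (CommRingCat.ofHom χ.toRingHom) ≫ str (X := X) E = u := by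
    unfold str
    rw [← Category.assoc, ← Spec.map_comp]
    have h2 : CommRingCat.ofHom (algebraMap Γ(X, ⊤) E) ≫ CommRingCat.ofHom χ.toRingHom =
        CommRingCat.ofHom (chi u) := by
      ext x
      exact χ.commutes x
    rw [h2, specMap_chi_isoSpec_inv]
  refine ⟨Spec (CommRingCat.of E), inferInstance, str (X := X) E, hE,
    Spec.map (CommRingCat.ofHom χ.toRingHom), ht,
    ∑ i, (Scheme.ΓSpecIso (CommRingCat.of E)).inv.hom (e i) •
      trh F (str (X := X) E) (𝟙 X) (str (X := X) E) (Category.comp_id _) (m i), ?_⟩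
  · refine (map_sum (dd F u ψ hψ (str (X := X) E) _ ht) _ _).trans ?_
    refine Finset.sum_congr rfl fun i _ => ?_
    rw [dd_smul, dd_trh_id, chi_specMap_inv]
    rfl

theorem exists_trh_eq_zero [IsAffine Y] (a : Y ⟶ X) [AlgebraicGeometry.Etale a]
    (t : Spec (CommRingCat.of S) ⟶ Y) (ht : t ≫ a = u) (y : MT F a) (hy : dd F u ψ hψ a t ht y = 0) :
    ∃ (Y' : Scheme.{u}) (_ : IsAffine Y') (a' : Y' ⟶ X) (_ : AlgebraicGeometry.Etale a') (v : Y' ⟶ Y)
      (hv : v ≫ a = a') (t' : Spec (CommRingCat.of S) ⟶ Y'), t' ≫ v = t ∧ trh F v a a' hv y = 0 := by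
  let _ := (chi u).toAlgebra
  let _ := a.appTop.hom.toAlgebra
  have hEt : Algebra.Etale Γ(X, ⊤) Γ(Y, ⊤) := by
    have h := (HasRingHomProperty.iff_of_isAffine (P := @AlgebraicGeometry.Etale) (f := a)).1 inferInstance
    exact h
  let χ : Γ(Y, ⊤) →ₐ[Γ(X, ⊤)] S := { chi t with
    commutes' := fun r => by
      change chi t (a.appTop.hom r) = chi u r
      rw [← ht, chi_comp]
      rfl }
  obtain ⟨E', _, _, _, ψ', χ', h1, h2⟩ := zero_factor hL χ (isBC_trh F a (𝟙 X) a (Category.comp_id a)) hBC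
    (dd F u ψ hψ a t ht) (dd_smul F u ψ hψ a t ht) (dd_trh_id F u ψ hψ a t ht) y hy
  have hE := etale_str (X := X) E'
  let v : Spec (CommRingCat.of E') ⟶ Y := Spec.map (CommRingCat.ofHom ψ'.toRingHom) ≫ Y.isoSpec.inv
  have hv : v ≫ a = str (X := X) E' := by
    unfold str
    have h3 : CommRingCat.ofHom (algebraMap Γ(X, ⊤) E') = a.appTop ≫ CommRingCat.ofHom ψ'.toRingHom := by
      ext x
      exact (ψ'.commutes x).symm
    rw [h3, Spec.map_comp]
    exact (Category.assoc _ _ _).trans ((congrArg (fun z => Spec.map (CommRingCat.ofHom ψ'.toRingHom) ≫ z)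
      (Scheme.isoSpec_inv_naturality a).symm).trans (Category.assoc _ _ _).symm)
  have ht' : Spec.map (CommRingCat.ofHom χ'.toRingHom) ≫ v = t := by
    have h4 : CommRingCat.ofHom ψ'.toRingHom ≫ CommRingCat.ofHom χ'.toRingHom = CommRingCat.ofHom (chi t) := by
      ext x
      exact congrArg (fun k => k x) h1
    refine Eq.trans ?_ (specMap_chi_isoSpec_inv t)
    rw [← h4, Spec.map_comp, Category.assoc]
  refine ⟨Spec (CommRingCat.of E'), inferInstance, str (X := X) E', hE, v, hv,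
    Spec.map (CommRingCat.ofHom χ'.toRingHom), ht', ?_⟩
  · refine h2 (MT F (str (X := X) E')) Γ(Spec (CommRingCat.of E'), ⊤)
      (trh F (str (X := X) E') (𝟙 X) (str (X := X) E') (Category.comp_id _))
      (Scheme.ΓSpecIso (CommRingCat.of E')).inv.hom ?_ (trh F v a (str (X := X) E') hv) ?_ ?_
    · intro r m
      rw [(isBC_trh F (str (X := X) E') (𝟙 X) (str (X := X) E') (Category.comp_id _)).map_smul]
      congr 1
      exact appTop_specMap_isoSpec_inv (Y := X) (algebraMap Γ(X, ⊤) E') r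
    · intro r m
      rw [(isBC_trh F v a (str (X := X) E') hv).map_smul]
      congr 1
      exact appTop_specMap_isoSpec_inv (Y := Y) ψ'.toRingHom r
    · intro m
      exact trh_trh F a v (str (X := X) E') hv (𝟙 X) a (str (X := X) E') (Category.comp_id _) hv
        (Category.comp_id _) m

end

end K75.ModSide
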