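import Groth.Agent.HensSch.K75.SphPhi
import Groth.Agent.HensSch.K75.BasisIso
import Groth.Agent.Cohder.ZarUlift
import Groth.Agent.CohtopA.PushClosed
import Groth.Agent.S1175
import Groth.Agent.S1174
import Groth.Agent.S19882

/-!
# Vanishing of the cohomology of `π^* F` in positive characteristic
-/

set_option autoImplicit false
universe u
open CategoryTheory CategoryTheory.Limits AlgebraicGeometry Opposite TopologicalSpace

namespace K75.SphFinal

open K75.ModSide K75.SphPsi K75.SphPhi K75.Theta K75.EtSec K75.Kappa Groth.Agent.Etcore.LocSec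

variable {A : Type u} [CommRing A] {I : Ideal A} {Z : LocallyRingedSpace.{u}} {π : Z ⟶ HensSch.specLRS A}

theorem exists_homeo (hZ : HensSch.IsSph A I Z π) :
    ∃ h : Z ≃ₜ PrimeSpectrum (A ⧸ I),
      ∀ z, PrimeSpectrum.comap (Ideal.Quotient.mk I) (h z) = π.base z := by
  have h1 : Topology.IsClosedEmbedding (PrimeSpectrum.comap (Ideal.Quotient.mk I)) :=
    PrimeSpectrum.isClosedEmbedding_comap_of_surjective _ _ Ideal.Quotient.mk_surjective
  have h2 : Set.range π.base = Set.range (PrimeSpectrum.comap (Ideal.Quotient.mk I)) := by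
    rw [hZ.2.1, range_comap_of_surjective _ _ Ideal.Quotient.mk_surjective, Ideal.mk_ker]
  let e1 := hZ.1.toHomeomorph
  let e2 := h1.isEmbedding.toHomeomorph
  refine ⟨(e1.trans (Homeomorph.setCongr h2)).trans e2.symm, fun z => ?_⟩
  have h3 := e2.apply_symm_apply (Homeomorph.setCongr h2 (e1 z))
  exact congrArg Subtype.val h3

/-- The underlying space of the closed subscheme. -/
noncomputable abbrev YT (I : Ideal A) : TopCat.{u} := TopCat.of (PrimeSpectrum (A ⧸ I))

section

variable (hh : Z ≃ₜ PrimeSpectrum (A ⧸ I))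
  (hc : ∀ z, PrimeSpectrum.comap (Ideal.Quotient.mk I) (hh z) = π.base z)

/-- The homeomorphism as a morphism of spaces. -/
noncomputable abbrev hT : (Z.toTopCat : TopCat.{u}) ⟶ YT I := TopCat.ofHom ⟨hh, hh.continuous⟩

include hc in
theorem map_hT (f : A) : (Opens.map (hT hh)).obj (UU I f) = HensSch.dOpen π f := by
  ext z
  change hh z ∈ (PrimeSpectrum.basicOpen (Ideal.Quotient.mk I f)) ↔ f ∉ (π.base z).asIdeal
  rw [← hc z]
  rfl

theorem isBasis_UU : Opens.IsBasis (Set.range (fun f : A => (UU I f : Opens (YT I)))) := by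
  have h := PrimeSpectrum.isBasis_basic_opens (R := A ⧸ I)
  have h2 : Set.range (fun f : A => (UU I f : Opens (YT I))) =
      Set.range (fun g : A ⧸ I => (PrimeSpectrum.basicOpen g : Opens (PrimeSpectrum (A ⧸ I)))) := by
    ext U
    constructor
    · rintro ⟨f, rfl⟩
      exact ⟨Ideal.Quotient.mk I f, rfl⟩
    · rintro ⟨g, rfl⟩
      obtain ⟨f, rfl⟩ := Ideal.Quotient.mk_surjective g
      exact ⟨f, rfl⟩
  rw [h2]
  exact h

end

/-- The direct image of the underlying abelian sheaf of `M~`. -/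
noncomputable abbrev Qsh (π : Z ⟶ HensSch.specLRS A) (hh : Z ≃ₜ PrimeSpectrum (A ⧸ I)) (M : ModuleCat.{u} A) :
    CohTop.Ab (YT I) :=
  (CohTop.push (hT hh)).obj (ModSite.toAb (HensSch.sphTilde π M))

section

variable [HenselianRing A I] (hZ : HensSch.IsSph A I Z π) (M : ModuleCat.{u} A)
  (G : EtCoh.Ab (Spec (CommRingCat.of A))) (hh : Z ≃ₜ PrimeSpectrum (A ⧸ I))
  (hc : ∀ z, PrimeSpectrum.comap (Ideal.Quotient.mk I) (hh z) = π.base z)

/-- Identification of the sections of the direct image. -/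
noncomputable def tau (f : A) : PP π M f →+ (Qsh π hh M).obj.obj (op (UU I f)) :=
  ((HensSch.sphTilde π M).val.presheaf.map (homOfLE (map_hT hh hc f).le).op).hom

theorem bijective_tau (f : A) : Function.Bijective (tau M hh hc f) := by
  have h1 : IsIso ((HensSch.sphTilde π M).val.presheaf.map (homOfLE (map_hT hh hc f).le).op) := by
    have h2 : IsIso (homOfLE (map_hT hh hc f).le) :=
      ⟨homOfLE (map_hT hh hc f).ge, Subsingleton.elim _ _, Subsingleton.elim _ _⟩
    infer_instance
  exact ConcreteCategory.bijective_of_isIso _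

theorem tau_qq {f g : A} (hU : UU I g ≤ UU I f) (hfg : HensSch.dOpen π g ≤ HensSch.dOpen π f) (x : PP π M f) :
    tau M hh hc g (qq M hfg x) = (Qsh π hh M).obj.map (homOfLE hU).op (tau M hh hc f x) := by
  have h1 := ConcreteCategory.congr_hom ((HensSch.sphTilde π M).val.presheaf.map_comp
    (homOfLE hfg).op (homOfLE (map_hT hh hc g).le).op) x
  have h2 := ConcreteCategory.congr_hom ((HensSch.sphTilde π M).val.presheaf.map_comp
    (homOfLE (map_hT hh hc f).le).op ((Opens.map (hT hh)).map (homOfLE hU)).op) x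
  exact h1.symm.trans h2

include hc in
theorem dOpen_le {f g : A} (hU : UU I g ≤ UU I f) : HensSch.dOpen π g ≤ HensSch.dOpen π f := by
  rw [← map_hT hh hc f, ← map_hT hh hc g]
  exact ((Opens.map (hT hh)).map (homOfLE hU)).le

variable [EtZar.ZarCont (Spec (CommRingCat.of (A ⧸ I)))]

variable (π) in
/-- The direct image as a sheaf on the scheme. -/
noncomputable abbrev Qs : Sheaf (Opens.grothendieckTopology (Spec (CommRingCat.of (A ⧸ I)))) AddCommGrpCat.{u} :=
  Qsh π hh M

/-- The universe lift of the direct image. -/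
noncomputable abbrev Ql (π : Z ⟶ HensSch.specLRS A) (M : ModuleCat.{u} A) (hh : Z ≃ₜ PrimeSpectrum (A ⧸ I)) :
    EtZar.Ab (Spec (CommRingCat.of (A ⧸ I))) :=
  (Groth.Agent.Cohder.ZarUlift.UL (Opens.grothendieckTopology (Spec (CommRingCat.of (A ⧸ I))))).obj
    (Qs π M hh)

include hZ hc in
theorem nonempty_iso (hG : EtAssoc.IsAssoc (TM M) G) :
    Nonempty ((EtZar.resZar (Spec (CommRingCat.of (A ⧸ I)))).obj ((EtCoh.pull (ii I)).obj G) ≅ Ql π M hh) := by
  obtain ⟨e, he⟩ := hG
  let D : ∀ f : A, PhiData (I := I) (π := π) M G e f := fun f => (nonempty_phiData hZ M G e he f).some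
  let φ : ∀ f : A, EtCoh.sect ((EtCoh.pull (ii I)).obj G) (WW I f) ≃+
      ULift.{u + 1} ((Qsh π hh M).obj.obj (op (UU I f))) := fun f =>
    ((D f).Φ.trans (AddEquiv.ofBijective _ (bijective_tau M hh hc f))).trans AddEquiv.ulift.symm
  refine K75.BasisIso.nonempty_iso_of_basis (X := YT I) (ι := A) (fun f => UU I f) isBasis_UU _ _ φ ?_
  intro f g h x
  apply ULift.down_injective
  have h1 := Phi_res hZ M G e (dOpen_le hh hc h) h (D f) (D g) x
  have h2 := congrArg (tau M hh hc g) h1
  exact h2.trans (tau_qq M hh hc h (dOpen_le hh hc h) _)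

end

theorem HPush_subsingleton (hh : Z ≃ₜ PrimeSpectrum (A ⧸ I)) (P : CohTop.Ab Z.toTopCat) (j : ℕ)
    (h : Subsingleton (Sheaf.H ((CohTop.push (hT hh)).obj P) j)) : Subsingleton (Sheaf.H P j) := by
  have h1 : Topology.IsClosedEmbedding (hT hh) := hh.isClosedEmbedding
  have h2 := Groth.Agent.CohtopA.PushClosed.preservesFiniteColimits_push_of_isClosedEmbedding (hT hh) h1
  exact (Groth.Agent.CohtopA.PushClosed.HPushEquiv (hT hh) P j).injective.subsingleton

theorem main_tilde (A : Type u) [CommRing A] (I : Ideal A)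
    [HenselianRing A I] (p : ℕ) [Fact p.Prime] [CharP A p]
    (Z : LocallyRingedSpace.{u}) (π : Z ⟶ HensSch.specLRS A) (hZ : HensSch.IsSph A I Z π)
    (M : ModuleCat.{u} A) (j : ℕ) (hj : 0 < j) :
    Subsingleton (ModSite.HC Z.sheaf (HensSch.sphTilde π M) j) := by
  obtain ⟨G, hG⟩ := Groth.Agent.S1174.result (TM M)
  obtain ⟨hh, hc⟩ := exists_homeo hZ
  obtain ⟨i⟩ := nonempty_iso hZ M G hh hc hG
  have h1 := Groth.Agent.S19882.result A I p (TM M) G hG j hj
  obtain ⟨e⟩ := Groth.Agent.S1175.nonempty_H_equiv i j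
  have h2 : Subsingleton (EtZar.H (Ql π M hh) j) := e.symm.injective.subsingleton
  have h3 : Subsingleton (Sheaf.H (Qs π M hh) j) :=
    (Groth.Agent.Cohder.ZarUlift.hMap_bijective (Opens.grothendieckTopology (Spec (CommRingCat.of (A ⧸ I))))
      (Qs π M hh) j).1.subsingleton
  exact HPush_subsingleton hh (ModSite.toAb (HensSch.sphTilde π M)) j h3

theorem HC_iso {Z : LocallyRingedSpace.{u}} {P P' : ModSite.Mod Z.sheaf} (i : P ≅ P') (j : ℕ)
    (h : Subsingleton (ModSite.HC Z.sheaf P j)) : Subsingleton (ModSite.HC Z.sheaf P' j) := by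
  let i' := (SheafOfModules.toSheaf (ModSite.ringSh Z.sheaf)).mapIso i
  have h1 : Function.Injective (Sheaf.H.map i'.inv j) := by
    intro x y h
    have h2 := congrArg (Sheaf.H.map i'.hom j) h
    rw [← Sheaf.H.map_comp_apply, ← Sheaf.H.map_comp_apply, Iso.inv_hom_id] at h2
    rwa [Sheaf.H.map_id_apply, Sheaf.H.map_id_apply] at h2
  exact h1.subsingleton

theorem main (A : Type u) [CommRing A] (I : Ideal A)
    [HenselianRing A I] (p : ℕ) [Fact p.Prime] [CharP A p]
    (Z : LocallyRingedSpace.{u}) (π : Z ⟶ HensSch.specLRS A) (hZ : HensSch.IsSph A I Z π)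
    (F : (Spec (CommRingCat.of A)).Modules) [F.IsQuasicoherent] (j : ℕ) (hj : 0 < j) :
    Subsingleton (ModSite.HC Z.sheaf ((HensSch.pullMod π).obj F) j) := by
  have hF : IsIso (Scheme.Modules.fromTildeΓ (R := CommRingCat.of A) F) :=
    Scheme.Modules.isIso_fromTildeΓ_of_isQuasicoherent (R := CommRingCat.of A) F
  let M : ModuleCat.{u} A := (modulesSpecToSheaf.obj F).presheaf.obj (op ⊤)
  have i : TM M ≅ F := asIso (Scheme.Modules.fromTildeΓ (R := CommRingCat.of A) F)
  exact HC_iso ((HensSch.pullMod π).mapIso i) j (main_tilde A I p Z π hZ M j hj)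

end K75.SphFinal
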