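import Groth.Agent.HensSch.K75.SphPsi
import Groth.Agent.HensSch.K75.Kappa
import Groth.Agent.HensSch.K941.SphBasic
import Groth.Prelude.Def_EtZar

/-!
# Comparison of the sections of `i⁻¹ G` and of `π^* M~` over distinguished opens
-/

set_option autoImplicit false
universe u
open CategoryTheory CategoryTheory.Limits AlgebraicGeometry Opposite TopologicalSpace

namespace K75.SphPhi

open K75.ModSide K75.SphPsi K75.Theta K75.EtSec K75.Kappa Groth.Agent.Etcore.LocSec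

variable {A : Type u} [CommRing A] {I : Ideal A} [HenselianRing A I] {Z : LocallyRingedSpace.{u}}
  {π : Z ⟶ HensSch.specLRS A} (hZ : HensSch.IsSph A I Z π) (M : ModuleCat.{u} A)
  (G : EtCoh.Ab (Spec (CommRingCat.of A)))
  (e : ∀ U : (Spec (CommRingCat.of A)).Etale, (G.obj.obj (op U) : Type (u + 1)) ≃+
    ULift.{u + 1} (EtAssoc.obj (TM M) U))
  (he : ∀ (U U' : (Spec (CommRingCat.of A)).Etale) (g : U' ⟶ U) (s : G.obj.obj (op U)),
      (e U' (G.obj.map g.op s)).down = EtAssoc.resMap (TM M) g (e U s).down)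

variable (I) in
/-- The closed immersion. -/
noncomputable abbrev ii : Spec (CommRingCat.of (A ⧸ I)) ⟶ Spec (CommRingCat.of A) :=
  Spec.map (CommRingCat.ofHom (Ideal.Quotient.mk I))

variable (I) in
/-- The distinguished open of the closed subscheme. -/
noncomputable abbrev UU (f : A) : (Spec (CommRingCat.of (A ⧸ I))).Opens :=
  bo (R := CommRingCat.of (A ⧸ I)) (Ideal.Quotient.mk I f)

variable (I) in
/-- The distinguished open as an object of the étale site. -/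
noncomputable abbrev WW (f : A) : (Spec (CommRingCat.of (A ⧸ I))).Etale :=
  (EtZar.zarToEt (Spec (CommRingCat.of (A ⧸ I)))).obj (UU I f)

instance (f : A) : IsAffine (UU I f).toScheme := by
  have h : IsAffineOpen (UU I f) := IsAffineOpen.Spec_basicOpen (R := CommRingCat.of (A ⧸ I)) (Ideal.Quotient.mk I f)
  exact h

theorem Nb_w {f : A} {k : (UU I f).toScheme ⟶ Spec (CommRingCat.of (SS π f))}
    (hk : k ≫ uu π f = (UU I f).ι ≫ ii I) (nb : Nb (uu π f)) :
    (k ≫ nb.t) ≫ nb.B.hom = (WW I f).hom ≫ ii I :=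
  (Category.assoc _ _ _).trans ((congrArg (fun z => k ≫ z) nb.w).trans hk)

/-- The pullback of sections to the distinguished open of the closed subscheme. -/
noncomputable def spW {f : A} (k : (UU I f).toScheme ⟶ Spec (CommRingCat.of (SS π f)))
    (hk : k ≫ uu π f = (UU I f).ι ≫ ii I) (nb : Nb (uu π f)) :
    EtCoh.sect G nb.B →+ EtCoh.sect ((EtCoh.pull (ii I)).obj G) (WW I f) :=
  sp (ii I) (WW I f) nb.B (k ≫ nb.t) (Nb_w hk nb) G

theorem chi_uu_eq (f : A) : chi (uu π f) = (HensSch.secMap π (PrimeSpectrum.basicOpen f)).comp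
      (Scheme.ΓSpecIso (CommRingCat.of A)).commRingCatIsoToRingEquiv.toRingHom := by
  ext r
  change _ = HensSch.secMap π (PrimeSpectrum.basicOpen f) ((Scheme.ΓSpecIso (CommRingCat.of A)).hom.hom r)
  rw [← chi_uu_inv]
  have h5 : (Scheme.ΓSpecIso (CommRingCat.of A)).inv.hom ((Scheme.ΓSpecIso (CommRingCat.of A)).hom.hom r) = r :=
    ConcreteCategory.congr_hom (Scheme.ΓSpecIso (CommRingCat.of A)).hom_inv_id r
  rw [h5]

include hZ in
theorem lazard_chi (f : A) : @Groth.Agent.Pi1C.IndEtaleWE.Lazard Γ(Spec (CommRingCat.of A), ⊤) (SS π f) _ _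
      (chi (uu π f)).toAlgebra := by
  have h6 := K75.LazComp.lazard_of_isHensAway (hZ.2.2 f)
    (Scheme.ΓSpecIso (CommRingCat.of A)).commRingCatIsoToRingEquiv
  rw [← chi_uu_eq] at h6
  exact h6

include hZ he in
theorem exists_theta' (f : A) : ∃ θ : ST G (uu π f) ≃+ PP π M f, ∀ (i : Nb (uu π f)) (g : EtCoh.sect G i.B),
      θ (sg (uu π f) i.B i.t i.w G g) = dmap (TM M) G e (uu π f) (psi π M f) (psi_smul π M f) i g :=
  exists_theta (TM M) G e he (uu π f) (psi π M f) (psi_smul π M f)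
    (K75.LazComp.isEtLim_of_isHensAway (hZ.2.2 f)) (lazard_chi hZ f) (isBC_psi π M I hZ f)

include hZ in
theorem exists_k (f : A) :
    ∃ (k : (UU I f).toScheme ⟶ Spec (CommRingCat.of (SS π f))) (hk : k ≫ uu π f = (UU I f).ι ≫ ii I),
      Function.Bijective (rs k (uu π f) ((UU I f).ι ≫ ii I) hk G) := by
  have hA := hZ.2.2 f
  have hhens : HenselianRing (SS π f) (I.map (HensSch.secMap π (PrimeSpectrum.basicOpen f))) := hA.2.1
  obtain ⟨κ, h1, h2, h3⟩ := exists_hom_basicOpen hA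
  exact ⟨(UU I f).toScheme.toSpecΓ ≫ Spec.map κ, h3, bijective_rs_of_ker_eq (UU I f).toScheme (SS π f)
    (I.map (HensSch.secMap π (PrimeSpectrum.basicOpen f))) κ h1 h2 _ rfl (uu π f) _ h3 G⟩

theorem kp_spW {f : A} (k : (UU I f).toScheme ⟶ Spec (CommRingCat.of (SS π f)))
    (hk : k ≫ uu π f = (UU I f).ι ≫ ii I) (nb : Nb (uu π f)) (g : EtCoh.sect G nb.B) :
    kp (ii I) (WW I f) ((UU I f).ι ≫ ii I) rfl G (spW G k hk nb g) =
      rs k (uu π f) ((UU I f).ι ≫ ii I) hk G (sg (uu π f) nb.B nb.t nb.w G g) := by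
  refine (kp_sp (ii I) (WW I f) ((UU I f).ι ≫ ii I) rfl nb.B (k ≫ nb.t) (Nb_w hk nb) (Nb_w hk nb) G g).trans ?_
  exact (rs_sg k (uu π f) ((UU I f).ι ≫ ii I) hk nb.B nb.t nb.w (k ≫ nb.t) rfl (Nb_w hk nb) G g).symm

theorem exists_nb_sg {X T : Scheme.{u}} [IsAffine X] {u : T ⟶ X} (hE : Groth.Agent.Sga4h.EtLim.IsEtLim u)
    (G : EtCoh.Ab X) (x : ST G u) :
    ∃ (i : Nb u) (g : EtCoh.sect G i.B), sg u i.B i.t i.w G g = x := by
  obtain ⟨B, hB, t, ht, g, hg⟩ := exists_sg hE G x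
  exact ⟨⟨B.left, hB, B.hom, B.prop, t, ht⟩, g, hg⟩

theorem zigzag {S1 T1 T2 P : Type*} [AddCommGroup S1] [AddCommGroup T1] [AddCommGroup T2] [AddCommGroup P]
    (kp : S1 →+ T1) (hkp : Function.Bijective kp) (rs : T2 →+ T1) (hrs : Function.Bijective rs) (θ : T2 ≃+ P) :
    ∃ Φ : S1 ≃+ P, ∀ x y, kp x = rs y → Φ x = θ y := by
  let e1 := AddEquiv.ofBijective rs hrs
  let e2 := AddEquiv.ofBijective kp hkp
  refine ⟨(e2.trans e1.symm).trans θ, fun x y h => ?_⟩
  have h2 : e2 x = e1 y := h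
  change θ (e1.symm (e2 x)) = θ y
  rw [h2, e1.symm_apply_apply]

theorem hkp (f : A) : Function.Bijective (kp (ii I) (WW I f) ((UU I f).ι ≫ ii I) rfl G) :=
  bijective_kp (ii I) (WW I f) ((UU I f).ι ≫ ii I) rfl G

include hZ he in
theorem exists_Phi1 (f : A) (k : (UU I f).toScheme ⟶ Spec (CommRingCat.of (SS π f)))
    (hk : k ≫ uu π f = (UU I f).ι ≫ ii I)
    (hrs : Function.Bijective (rs k (uu π f) ((UU I f).ι ≫ ii I) hk G)) :
    ∃ (Φ : EtCoh.sect ((EtCoh.pull (ii I)).obj G) (WW I f) ≃+ PP π M f),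
      (∀ (nb : Nb (uu π f)) (g : EtCoh.sect G nb.B),
        Φ (spW G k hk nb g) = dmap (TM M) G e (uu π f) (psi π M f) (psi_smul π M f) nb g) := by
  obtain ⟨θ, hθ⟩ := exists_theta' hZ M G e he f
  obtain ⟨Φ, hΦ⟩ := zigzag _ (hkp G f) _ hrs θ
  refine ⟨Φ, fun nb g => (hΦ _ _ (kp_spW G k hk nb g)).trans (hθ nb g)⟩

include hZ in
theorem isEtLim_uu (f : A) : Groth.Agent.Sga4h.EtLim.IsEtLim (uu π f) :=
  K75.LazComp.isEtLim_of_isHensAway (hZ.2.2 f)

include hZ in
theorem exists_nb_sg' (f : A) (y : ST G (uu π f)) :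
    ∃ (nb : Nb (uu π f)) (g : EtCoh.sect G nb.B), sg (uu π f) nb.B nb.t nb.w G g = y :=
  exists_nb_sg (isEtLim_uu hZ f) G y

theorem exists_Phi2 (f : A) (k : (UU I f).toScheme ⟶ Spec (CommRingCat.of (SS π f)))
    (hk : k ≫ uu π f = (UU I f).ι ≫ ii I)
    (nb : Nb (uu π f)) (g : EtCoh.sect G nb.B)
    (x : EtCoh.sect ((EtCoh.pull (ii I)).obj G) (WW I f))
    (h : kp (ii I) (WW I f) ((UU I f).ι ≫ ii I) rfl G x =
      rs k (uu π f) ((UU I f).ι ≫ ii I) hk G (sg (uu π f) nb.B nb.t nb.w G g)) :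
      x = spW G k hk nb g :=
  (hkp G f).1 (h.trans (kp_spW G k hk nb g).symm)

include hZ in
theorem exists_Phi3 (f : A) (k : (UU I f).toScheme ⟶ Spec (CommRingCat.of (SS π f)))
    (hk : k ≫ uu π f = (UU I f).ι ≫ ii I)
    (hrs : Function.Bijective (rs k (uu π f) ((UU I f).ι ≫ ii I) hk G))
    (x : EtCoh.sect ((EtCoh.pull (ii I)).obj G) (WW I f)) :
      ∃ (nb : Nb (uu π f)) (g : EtCoh.sect G nb.B), x = spW G k hk nb g := by
  obtain ⟨y, hy⟩ := hrs.2 (kp (ii I) (WW I f) ((UU I f).ι ≫ ii I) rfl G x)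
  obtain ⟨nb, g, hg⟩ := exists_nb_sg' hZ G f y
  rw [← hg] at hy
  exact ⟨nb, g, exists_Phi2 G f k hk nb g x hy.symm⟩

/-- The data of the comparison over a distinguished open. -/
structure PhiData (f : A) where
  k : (UU I f).toScheme ⟶ Spec (CommRingCat.of (SS π f))
  hk : k ≫ uu π f = (UU I f).ι ≫ ii I
  Φ : EtCoh.sect ((EtCoh.pull (ii I)).obj G) (WW I f) ≃+ PP π M f
  hΦ : ∀ (nb : Nb (uu π f)) (g : EtCoh.sect G nb.B),
    Φ (spW G k hk nb g) = dmap (TM M) G e (uu π f) (psi π M f) (psi_smul π M f) nb g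
  hs : ∀ x, ∃ (nb : Nb (uu π f)) (g : EtCoh.sect G nb.B), x = spW G k hk nb g

include hZ he in
theorem nonempty_phiData (f : A) : Nonempty (PhiData (I := I) (π := π) M G e f) := by
  obtain ⟨k, hk, hrs⟩ := exists_k hZ G f
  obtain ⟨Φ, hΦ⟩ := exists_Phi1 hZ M G e he f k hk hrs
  exact ⟨⟨k, hk, Φ, hΦ, exists_Phi3 hZ G f k hk hrs⟩⟩

section

variable {f g : A} (hfg : HensSch.dOpen π g ≤ HensSch.dOpen π f) (hU : UU I g ≤ UU I f)

/-- Restriction of the ring of sections. -/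
noncomputable def rho : SS π f →+* SS π g := (Z.presheaf.map (homOfLE hfg).op).hom

/-- Restriction of sections of `M~`. -/
noncomputable def qq : PP π M f →+ PP π M g :=
  ((HensSch.sphTilde π M).val.map (homOfLE hfg).op).hom.toAddMonoidHom

theorem qq_smul (s : SS π f) (p : PP π M f) : qq M hfg (s • p) = rho hfg s • qq M hfg p :=
  (HensSch.sphTilde π M).val.map_smul (homOfLE hfg).op s p

theorem qq_eta (m : Γ(TM M, ⊤)) : qq M hfg (eta π M f m) = eta π M g m := by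
  have h := ConcreteCategory.congr_hom ((HensSch.sphTilde π M).val.presheaf.map_comp
    ((Opens.map π.base).map (homOfLE (le_top : PrimeSpectrum.basicOpen f ≤ ⊤))).op (homOfLE hfg).op)
    ((((HensSch.pullPushAdj π).unit.app (TM M)).val.app (op ⊤)).hom m)
  exact h.symm

theorem qq_psi (m : MT (TM M) (𝟙 (Spec (CommRingCat.of A)))) : qq M hfg (psi π M f m) = psi π M g m :=
  qq_eta M hfg _

theorem rho_uu : Spec.map (CommRingCat.ofHom (rho (π := π) hfg)) ≫ uu π f = uu π g := by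
  rw [← Spec.map_comp]
  congr 1
  ext a
  exact K941.Sph.secMap_res' π (homOfLE hfg) (𝟙 _) a |>.trans (ConcreteCategory.congr_hom (Z.presheaf.map_id _) _)

/-- The restriction morphism of the étale site. -/
noncomputable def rr : WW I g ⟶ WW I f := (EtZar.zarToEt (Spec (CommRingCat.of (A ⧸ I)))).map (homOfLE hU)

theorem rr_left : (rr hU).left = (Spec (CommRingCat.of (A ⧸ I))).homOfLE hU := rfl

include hZ in
theorem k_comm (k : (UU I f).toScheme ⟶ Spec (CommRingCat.of (SS π f))) (hk : k ≫ uu π f = (UU I f).ι ≫ ii I)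
    (k' : (UU I g).toScheme ⟶ Spec (CommRingCat.of (SS π g))) (hk' : k' ≫ uu π g = (UU I g).ι ≫ ii I) :
    (Spec (CommRingCat.of (A ⧸ I))).homOfLE hU ≫ k = k' ≫ Spec.map (CommRingCat.ofHom (rho (π := π) hfg)) := by
  refine hom_ext (hZ.2.2 f) _ _ (UU I g).ι ?_ ?_
  · refine (Category.assoc _ _ _).trans ((congrArg (fun z =>
      (Spec (CommRingCat.of (A ⧸ I))).homOfLE hU ≫ z) hk).trans ?_)
    rw [← Category.assoc, Scheme.homOfLE_ι]
  · exact (Category.assoc _ _ _).trans ((congrArg (fun z => k' ≫ z) (rho_uu (π := π) hfg)).trans hk')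

/-- Transport of a neighbourhood. -/
noncomputable def nbRes (nb : Nb (uu π f)) : Nb (uu π g) :=
  ⟨nb.Y, nb.aff, nb.a, nb.et, Spec.map (CommRingCat.ofHom (rho (π := π) hfg)) ≫ nb.t,
    (Category.assoc _ _ _).trans ((congrArg (fun z => Spec.map (CommRingCat.ofHom (rho (π := π) hfg)) ≫ z) nb.w).trans
      (rho_uu hfg))⟩

include hZ in
theorem res_spW (k : (UU I f).toScheme ⟶ Spec (CommRingCat.of (SS π f))) (hk : k ≫ uu π f = (UU I f).ι ≫ ii I)
    (k' : (UU I g).toScheme ⟶ Spec (CommRingCat.of (SS π g))) (hk' : k' ≫ uu π g = (UU I g).ι ≫ ii I)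
    (nb : Nb (uu π f)) (s : EtCoh.sect G nb.B) :
    res ((EtCoh.pull (ii I)).obj G) (rr hU) (spW G k hk nb s) = spW G k' hk' (nbRes hfg nb) s := by
  have h1 : (rr hU).left ≫ k ≫ nb.t = k' ≫ (nbRes hfg nb).t := by
    refine (Category.assoc _ _ _).symm.trans ?_
    refine (congrArg (fun z => z ≫ nb.t) (k_comm hZ hfg hU k hk k' hk')).trans ?_
    exact Category.assoc _ _ _
  exact res_sp (ii I) (rr hU) nb.B (k ≫ nb.t) (Nb_w hk nb) (k' ≫ (nbRes hfg nb).t) h1
    (Nb_w hk' (nbRes hfg nb)) G s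

theorem dmap_nbRes (nb : Nb (uu π f)) (s : EtCoh.sect G nb.B) :
    dmap (TM M) G e (uu π g) (psi π M g) (psi_smul π M g) (nbRes hfg nb) s =
      qq M hfg (dmap (TM M) G e (uu π f) (psi π M f) (psi_smul π M f) nb s) := by
  have := nb.aff
  exact (dd_map (TM M) (uu π f) (psi π M f) (psi_smul π M f) nb.a nb.t nb.w (uu π g) (psi π M g)
    (psi_smul π M g) (rho hfg) (qq M hfg) (qq_smul M hfg) (qq_psi M hfg) (nbRes hfg nb).t rfl
    (nbRes hfg nb).w _).symm

include hZ in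
theorem Phi_res (D : PhiData (I := I) (π := π) M G e f) (D' : PhiData (I := I) (π := π) M G e g)
    (x : EtCoh.sect ((EtCoh.pull (ii I)).obj G) (WW I f)) :
    D'.Φ (res ((EtCoh.pull (ii I)).obj G) (rr hU) x) = qq M hfg (D.Φ x) := by
  obtain ⟨nb, s, rfl⟩ := D.hs x
  exact (congrArg D'.Φ (res_spW hZ G hfg hU D.k D.hk D'.k D'.hk nb s)).trans
    ((D'.hΦ (nbRes hfg nb) s).trans ((dmap_nbRes M G e hfg nb s).trans
      (congrArg (qq M hfg) (D.hΦ nb s).symm)))

end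

end K75.SphPhi
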