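import Mathlib.Algebra.Group.Subgroup.Basic
import Mathlib.Algebra.Group.Equiv.Basic

/-!
# Two colimits of the same directed system of abelian groups are isomorphic
-/

set_option autoImplicit false

namespace K75.TwoColim

universe w v v' v''

theorem exists_addEquiv {Obj : Type w} [Nonempty Obj] (Gr : Obj → Type v) [∀ i, AddCommGroup (Gr i)]
    (Ar : Obj → Obj → Type*) (res : ∀ {i j : Obj}, Ar i j → Gr i →+ Gr j)
    {C : Type v'} {D : Type v''} [AddCommGroup C] [AddCommGroup D]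
    (c : ∀ i, Gr i →+ C) (d : ∀ i, Gr i →+ D)
    (hc : ∀ {i j : Obj} (r : Ar i j) (g : Gr i), c j (res r g) = c i g)
    (hd : ∀ {i j : Obj} (r : Ar i j) (g : Gr i), d j (res r g) = d i g)
    (dir : ∀ i j : Obj, ∃ k, Nonempty (Ar i k) ∧ Nonempty (Ar j k))
    (sc : ∀ x : C, ∃ (i : Obj) (g : Gr i), c i g = x)
    (sd : ∀ x : D, ∃ (i : Obj) (g : Gr i), d i g = x)
    (zc : ∀ (i : Obj) (g : Gr i), c i g = 0 → ∃ (j : Obj) (r : Ar i j), res r g = 0)
    (zd : ∀ (i : Obj) (g : Gr i), d i g = 0 → ∃ (j : Obj) (r : Ar i j), res r g = 0) :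
    ∃ e : C ≃+ D, ∀ i g, e (c i g) = d i g := by
  have key1 : ∀ (i j : Obj) (g : Gr i) (g' : Gr j), c i g = c j g' → d i g = d j g' := by
    intro i j g g' h
    obtain ⟨k, ⟨r⟩, ⟨r'⟩⟩ := dir i j
    obtain ⟨l, s, hs⟩ := zc k (res r g - res r' g') (by rw [map_sub, hc, hc, h, sub_self])
    have h2 : d k (res r g - res r' g') = 0 := by rw [← hd s, hs, map_zero]
    rw [map_sub, hd, hd, sub_eq_zero] at h2
    exact h2
  have key2 : ∀ (i j : Obj) (g : Gr i) (g' : Gr j), d i g = d j g' → c i g = c j g' := by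
    intro i j g g' h
    obtain ⟨k, ⟨r⟩, ⟨r'⟩⟩ := dir i j
    obtain ⟨l, s, hs⟩ := zd k (res r g - res r' g') (by rw [map_sub, hd, hd, h, sub_self])
    have h2 : c k (res r g - res r' g') = 0 := by rw [← hc s, hs, map_zero]
    rw [map_sub, hc, hc, sub_eq_zero] at h2
    exact h2
  choose ic gc hgc using sc
  choose jd gd hgd using sd
  refine ⟨{ toFun := fun x => d (ic x) (gc x)
            invFun := fun y => c (jd y) (gd y)
            left_inv := fun x => ?_
            right_inv := fun y => ?_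
            map_add' := fun x y => ?_ }, fun i g => ?_⟩
  · have := key2 _ _ (gd (d (ic x) (gc x))) (gc x) (hgd _)
    exact this.trans (hgc x)
  · have := key1 _ _ (gc (c (jd y) (gd y))) (gd y) (hgc _)
    exact this.trans (hgd y)
  · obtain ⟨k, ⟨r⟩, ⟨r'⟩⟩ := dir (ic x) (ic y)
    have h1 : c (ic (x + y)) (gc (x + y)) = c k (res r (gc x) + res r' (gc y)) := by
      rw [map_add, hc, hc, hgc, hgc, hgc]
    have h2 := key1 _ _ _ _ h1
    rw [map_add, hd, hd] at h2
    exact h2
  · exact key1 _ _ _ _ (hgc _)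

end K75.TwoColim
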