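import Groth.Agent.HensSch.K75.EtHens
import Groth.Agent.HensSch.K75.ModSide
import Groth.Agent.HensSch.K75.TwoColim

/-!
# Global sections of the inverse image of an associated sheaf along an ind-étale affine morphism
-/

set_option autoImplicit false
universe u
open CategoryTheory CategoryTheory.Limits AlgebraicGeometry Opposite

namespace K75.Theta

open Groth.Agent.Etcore.LocSec K75.EtSec K75.ModSide Groth.Agent.CohqA.BaseChangeMod
open Groth.Agent.Pi1C.IndEtaleWE Groth.Agent.Sga4h.EtLim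

variable {X : Scheme.{u}} [IsAffine X] (F : X.Modules) [F.IsQuasicoherent] (G : EtCoh.Ab X)
  (e : ∀ U : X.Etale, (G.obj.obj (op U) : Type (u + 1)) ≃+ ULift.{u + 1} (EtAssoc.obj F U))
  (he : ∀ (U U' : X.Etale) (g : U' ⟶ U) (s : G.obj.obj (op U)),
      (e U' (G.obj.map g.op s)).down = EtAssoc.resMap F g (e U s).down)

/-- Étale affine schemes with a map from `T`. -/
structure Nb {T : Scheme.{u}} (u : T ⟶ X) where
  Y : Scheme.{u}
  aff : IsAffine Y
  a : Y ⟶ X
  et : AlgebraicGeometry.Etale a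
  t : T ⟶ Y
  w : t ≫ a = u

/-- The object of the small étale site. -/
noncomputable def Nb.B {T : Scheme.{u}} {u : T ⟶ X} (i : Nb u) : X.Etale :=
  haveI := i.et
  Scheme.Etale.mk i.a

/-- The arrows. -/
structure Nb.Ar {T : Scheme.{u}} {u : T ⟶ X} (i j : Nb u) where
  v : j.Y ⟶ i.Y
  hv : v ≫ i.a = j.a
  ht : j.t ≫ v = i.t

/-- The arrow of the small étale site. -/
noncomputable def Nb.Ar.m {T : Scheme.{u}} {u : T ⟶ X} {i j : Nb u} (r : Nb.Ar i j) : j.B ⟶ i.B :=
  MorphismProperty.Over.homMk r.v r.hv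

theorem Nb.dir {T : Scheme.{u}} {u : T ⟶ X} (i j : Nb u) :
    ∃ k : Nb u, Nonempty (Nb.Ar i k) ∧ Nonempty (Nb.Ar j k) := by
  have h1 := i.et
  have h2 := j.et
  have := i.aff
  have := j.aff
  refine ⟨⟨pullback i.a j.a, inferInstance, pullback.fst i.a j.a ≫ i.a, inferInstance,
    pullback.lift i.t j.t (i.w.trans j.w.symm), ?_⟩, ⟨⟨pullback.fst i.a j.a, rfl, ?_⟩⟩,
    ⟨⟨pullback.snd i.a j.a, pullback.condition.symm, ?_⟩⟩⟩
  · rw [pullback.lift_fst_assoc]
    exact i.w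
  · exact pullback.lift_fst _ _ _
  · exact pullback.lift_snd _ _ _

section

variable {S : Type u} [CommRing S] (u : Spec (CommRingCat.of S) ⟶ X)
  {P : Type u} [AddCommGroup P] [Module S P] (ψ : MT F (𝟙 X) →+ P)
  (hψ : ∀ (a : Γ(X, ⊤)) (x : MT F (𝟙 X)), ψ (a • x) = chi u a • ψ x)

/-- The map `G(B) → P`. -/
noncomputable def dmap (i : Nb u) : EtCoh.sect G i.B →+ P :=
  haveI := i.aff
  (dd F u ψ hψ i.a i.t i.w).comp
    ((AddEquiv.ulift : ULift.{u + 1} (EtAssoc.obj F i.B) ≃+ (EtAssoc.obj F i.B)).toAddMonoidHom.comp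
      (e i.B).toAddMonoidHom)

theorem dmap_apply (i : Nb u) [IsAffine i.Y] (g : EtCoh.sect G i.B) :
    dmap F G e u ψ hψ i g = dd F u ψ hψ i.a i.t i.w (e i.B g).down := rfl

include he in
theorem dmap_res {i j : Nb u} (r : Nb.Ar i j) (g : EtCoh.sect G i.B) :
    dmap F G e u ψ hψ j (res G r.m g) = dmap F G e u ψ hψ i g := by
  have := i.aff
  have := j.aff
  rw [dmap_apply, dmap_apply]
  have h1 : (e j.B (res G r.m g)).down = trh F r.v i.a j.a r.hv (e i.B g).down := by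
    refine (he i.B j.B r.m g).trans ?_
    rw [Groth.Agent.Desc.EtAssocPb.resMap_eq_tr]
    rfl
  rw [h1]
  exact dd_trh F u ψ hψ i.a i.t i.w j.a r.v r.hv j.t r.ht j.w _

include he in
/-- The comparison of global sections. -/
theorem exists_theta (hE : IsEtLim u) (hL : @Lazard Γ(X, ⊤) S _ _ (chi u).toAlgebra) (hBC : IsBC (chi u) ψ) :
    ∃ θ : ST G u ≃+ P, ∀ (i : Nb u) (g : EtCoh.sect G i.B),
      θ (sg u i.B i.t i.w G g) = dmap F G e u ψ hψ i g := by
  have ne : Nonempty (Nb u) := ⟨⟨X, inferInstance, 𝟙 X, inferInstance, u, Category.comp_id u⟩⟩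
  refine K75.TwoColim.exists_addEquiv (Obj := Nb u) (fun i => EtCoh.sect G i.B) (fun i j => Nb.Ar i j)
    (fun r => res G r.m) (fun i => sg u i.B i.t i.w G) (fun i => dmap F G e u ψ hψ i)
    (fun {i j} r g => ?_) (fun {i j} r g => dmap_res F G e he u ψ hψ r g) Nb.dir (fun x => ?_) (fun x => ?_)
    (fun i g hg => ?_) (fun i g hg => ?_)
  · exact sg_res u r.m j.t j.w i.t r.ht i.w G g
  · obtain ⟨B, hB, t, ht, g, hg⟩ := exists_sg hE G x
    exact ⟨⟨B.left, hB, B.hom, B.prop, t, ht⟩, g, hg⟩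
  · obtain ⟨Y, hY, a, ha, t, ht, y, hy⟩ := exists_dd_eq F u ψ hψ hL hBC x
    let i : Nb u := ⟨Y, hY, a, ha, t, ht⟩
    refine ⟨i, (e i.B).symm ⟨y⟩, ?_⟩
    have := i.aff
    rw [dmap_apply, (e i.B).apply_symm_apply]
    exact hy
  · have h1 := i.et
    obtain ⟨B', hB', v, t', ht', h⟩ := exists_res_eq_zero hE G i.B i.t i.w g hg
    have hv : v.left ≫ i.a = B'.hom := Over.w v.hom
    have hw : t' ≫ B'.hom = u := (congrArg (fun z => t' ≫ z) hv.symm).trans
      ((Category.assoc t' v.left i.a).symm.trans ((congrArg (fun z => z ≫ i.a) ht').trans i.w))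
    exact ⟨⟨B'.left, hB', B'.hom, B'.prop, t', hw⟩, ⟨v.left, hv, ht'⟩, h⟩
  · have h1 := i.et
    have := i.aff
    rw [dmap_apply] at hg
    obtain ⟨Y', hY', a', ha', v, hv, t', ht', h⟩ := exists_trh_eq_zero F u ψ hψ hL hBC i.a i.t i.w _ hg
    let j : Nb u := ⟨Y', hY', a', ha', t', by rw [← hv, ← Category.assoc, ht']; exact i.w⟩
    let r : Nb.Ar i j := ⟨v, hv, ht'⟩
    refine ⟨j, r, ?_⟩
    apply (e j.B).injective
    rw [map_zero]
    apply ULift.down_injective
    refine (he i.B j.B r.m g).trans ?_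
    rw [Groth.Agent.Desc.EtAssocPb.resMap_eq_tr]
    exact h

end

end K75.Theta
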