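import Groth.Agent.S17956
import Groth.Agent.HensSch.K75.Theta
import Groth.Agent.HensSch.K75.LazComp

/-!
# Sections of `M~` on the henselian spectrum as a base change of the global sections
-/

set_option autoImplicit false
universe u
open CategoryTheory CategoryTheory.Limits AlgebraicGeometry Opposite TopologicalSpace

namespace K75.SphPsi

open K75.ModSide Groth.Agent.CohqA.BaseChangeMod Groth.Agent.Desc.EtAssocPb

variable {A : Type u} [CommRing A] {Z : LocallyRingedSpace.{u}} (π : Z ⟶ HensSch.specLRS A)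
  (M : ModuleCat.{u} A)

/-- The ring of sections over the distinguished open. -/
abbrev SS (f : A) : Type u := Z.presheaf.obj (op (HensSch.dOpen π f))

/-- The morphism from the spectrum of the ring of sections. -/
noncomputable abbrev uu (f : A) : Spec (CommRingCat.of (SS π f)) ⟶ Spec (CommRingCat.of A) :=
  Spec.map (CommRingCat.ofHom (HensSch.secMap π (PrimeSpectrum.basicOpen f)))

/-- Sections of `M~` over the distinguished open. -/
abbrev PP (f : A) : Type u := (HensSch.sphTilde π M).val.obj (op (HensSch.dOpen π f))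

noncomputable instance (f : A) : Module (SS π f) (PP π M f) :=
  inferInstanceAs (Module ((ModSite.ringSh Z.sheaf).obj.obj (op (HensSch.dOpen π f)))
    ((HensSch.sphTilde π M).val.obj (op (HensSch.dOpen π f))))

/-- `M~` on the spectrum. -/
noncomputable abbrev TM : (Spec (CommRingCat.of A)).Modules := tilde (R := CommRingCat.of A) M

/-- The map `Γ(Spec A, M~) → Γ(D(f), M~)`. -/
noncomputable def eta (f : A) : Γ(TM M, ⊤) →+ PP π M f :=
  (((HensSch.sphTilde π M).val.map ((Opens.map π.base).map
    (homOfLE (le_top : PrimeSpectrum.basicOpen f ≤ ⊤))).op).hom.toAddMonoidHom).comp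
      (((HensSch.pullPushAdj π).unit.app (TM M)).val.app (op ⊤)).hom.toAddMonoidHom

theorem chi_uu (f : A) (r : Γ(Spec (CommRingCat.of A), ⊤)) :
    chi (uu π f) r = (Z.presheaf.map ((Opens.map π.base).map
      (homOfLE (le_top : PrimeSpectrum.basicOpen f ≤ ⊤))).op).hom ((π.c.app (op ⊤)).hom r) := by
  unfold chi uu
  rw [Scheme.ΓSpecIso_naturality]
  change HensSch.secMap π (PrimeSpectrum.basicOpen f) ((Scheme.ΓSpecIso (CommRingCat.of A)).hom.hom r) = _
  unfold HensSch.secMap
  change (Z.presheaf.map _).hom ((π.c.app (op ⊤)).hom (((Scheme.ΓSpecIso (CommRingCat.of A)).hom ≫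
    (Scheme.ΓSpecIso (CommRingCat.of A)).inv).hom r)) = _
  rw [Iso.hom_inv_id]
  rfl

theorem eta_smul (f : A) (r : Γ(Spec (CommRingCat.of A), ⊤)) (x : Γ(TM M, ⊤)) :
    eta π M f (r • x) = chi (uu π f) r • eta π M f x := by
  rw [chi_uu]
  have h1 := (((HensSch.pullPushAdj π).unit.app (TM M)).val.app (op ⊤)).hom.map_smul r x
  have h2 := (HensSch.sphTilde π M).val.map_smul ((Opens.map π.base).map
    (homOfLE (le_top : PrimeSpectrum.basicOpen f ≤ ⊤))).op ((π.c.app (op ⊤)).hom r)
    ((((HensSch.pullPushAdj π).unit.app (TM M)).val.app (op ⊤)).hom x)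
  refine Eq.trans ?_ h2
  exact congrArg ((HensSch.sphTilde π M).val.map ((Opens.map π.base).map
    (homOfLE (le_top : PrimeSpectrum.basicOpen f ≤ ⊤))).op).hom h1

/-- The module as global sections. -/
noncomputable def un0 (m : M) : Γ(TM M, ⊤) :=
  ((tilde.adjunction (R := CommRingCat.of A)).unit.app M).hom m

theorem bijective_un0 : Function.Bijective (un0 (A := A) M) := by
  have h : IsIso ((tilde.adjunction (R := CommRingCat.of A)).unit.app M) :=
    (tilde.toTildeΓNatIso (R := CommRingCat.of A)).app M |>.isIso_hom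
  exact (ConcreteCategory.isIso_iff_bijective _).1 h

theorem un0_add (m m' : M) : un0 M (m + m') = un0 M m + un0 M m' :=
  ((tilde.adjunction (R := CommRingCat.of A)).unit.app M).hom.map_add m m'

theorem un0_smul (a : A) (m : M) :
    un0 M (a • m) = (Scheme.ΓSpecIso (CommRingCat.of A)).inv.hom a • un0 M m :=
  ((tilde.adjunction (R := CommRingCat.of A)).unit.app M).hom.map_smul a m

/-- The map from the module to the sections of the inverse image along the identity. -/
noncomputable def jj : M →+ MT (TM M) (𝟙 (Spec (CommRingCat.of A))) where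
  toFun m := (pb (𝟙 (Spec (CommRingCat.of A))) (TM M)).hom (un0 M m)
  map_zero' := by
    have h : un0 M 0 = 0 := ((tilde.adjunction (R := CommRingCat.of A)).unit.app M).hom.map_zero
    rw [h, map_zero]
  map_add' m m' := by rw [un0_add, map_add]

/-- The identification of sections. -/
noncomputable def gid : MT (TM M) (𝟙 (Spec (CommRingCat.of A))) →+ Γ(TM M, ⊤) :=
  (gs ((Scheme.Modules.pullbackId (Spec (CommRingCat.of A))).hom.app (TM M))).hom

theorem gid_smul (r : Γ(Spec (CommRingCat.of A), ⊤)) (x : MT (TM M) (𝟙 (Spec (CommRingCat.of A)))) :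
    gid M (r • x) = r • gid M x :=
  Scheme.Modules.Hom.app_smul _ r x

theorem gid_pb (x : Γ(TM M, ⊤)) : gid M ((pb (𝟙 (Spec (CommRingCat.of A))) (TM M)).hom x) = x :=
  ConcreteCategory.congr_hom (pb_id (TM M)) x

theorem injective_gid : Function.Injective (gid (A := A) M) := by
  have h : IsIso ((Scheme.Modules.pullbackId (Spec (CommRingCat.of A))).hom.app (TM M)) := inferInstance
  intro x y hxy
  have h2 : ∀ z, (gs (inv ((Scheme.Modules.pullbackId (Spec (CommRingCat.of A))).hom.app (TM M)))).hom
      (gid M z) = z := fun z => by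
    have h3 := congrArg gs (IsIso.hom_inv_id ((Scheme.Modules.pullbackId (Spec (CommRingCat.of A))).hom.app (TM M)))
    exact ConcreteCategory.congr_hom h3 z
  rw [← h2 x, ← h2 y, hxy]

theorem gid_jj (m : M) : gid M (jj M m) = un0 M m := gid_pb M _

theorem surjective_jj : Function.Surjective (jj (A := A) M) := by
  intro x
  obtain ⟨m, hm⟩ := (bijective_un0 M).2 (gid M x)
  refine ⟨m, injective_gid M ?_⟩
  rw [gid_jj, hm]

theorem jj_smul (a : A) (m : M) : jj M (a • m) = (Scheme.ΓSpecIso (CommRingCat.of A)).inv.hom a • jj M m := by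
  apply injective_gid
  rw [gid_smul, gid_jj, gid_jj, un0_smul]

/-- The map to the sections over a distinguished open of the henselian spectrum. -/
noncomputable def psi (f : A) : MT (TM M) (𝟙 (Spec (CommRingCat.of A))) →+ PP π M f :=
  (eta π M f).comp (gid M)

theorem psi_smul (f : A) (r : Γ(Spec (CommRingCat.of A), ⊤))
    (x : MT (TM M) (𝟙 (Spec (CommRingCat.of A)))) :
    psi π M f (r • x) = chi (uu π f) r • psi π M f x := by
  unfold psi
  rw [AddMonoidHom.comp_apply, gid_smul, eta_smul]
  rfl

theorem chi_uu_inv (f : A) (a : A) :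
    chi (uu π f) ((Scheme.ΓSpecIso (CommRingCat.of A)).inv.hom a) =
      HensSch.secMap π (PrimeSpectrum.basicOpen f) a := chi_uu π f _

theorem isBC_psi (I : Ideal A) [HenselianRing A I] (hZ : HensSch.IsSph A I Z π) (f : A) :
    IsBC (chi (uu π f)) (psi π M f) := by
  refine ⟨psi_smul π M f, ?_⟩
  intro Q _ _ g hg
  let _ : Module ((ModSite.ringSh Z.sheaf).obj.obj (op (HensSch.dOpen π f))) Q :=
    inferInstanceAs (Module (SS π f) Q)
  obtain ⟨χ, h1, h2⟩ := Groth.Agent.S17956.result A I Z π hZ M f Q (g.comp (jj M)) (fun a m => by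
    change g (jj M (a • m)) = HensSch.secMap π (PrimeSpectrum.basicOpen f) a • g (jj M m)
    rw [jj_smul, hg, chi_uu_inv])
  have key : ∀ m : M, psi π M f (jj M m) = eta π M f (un0 M m) := fun m =>
    congrArg (eta π M f) (gid_jj M m)
  refine ⟨χ, fun x => ?_, fun g' hg' => ?_⟩
  · obtain ⟨m, rfl⟩ := surjective_jj M x
    rw [key]
    exact h1 m
  · refine h2 g' fun m => ?_
    refine Eq.trans ?_ (hg' (jj M m))
    exact congrArg g' (key m).symm

end K75.SphPsi
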