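import Groth.Agent.HensSch.K75.NormHens
import Mathlib.RingTheory.Polynomial.UniqueFactorization
import Mathlib.RingTheory.Polynomial.RationalRoot
import Mathlib.Algebra.MvPolynomial.Division
import Mathlib.Analysis.Complex.Basic

/-!
# The triangle `x y (x + y - 1) = 0` in the plane and its henselization
-/

set_option autoImplicit false

open MvPolynomial

namespace K75.Triangle

/-- the affine change of coordinates with `y ↦ x + y - 1` -/
noncomputable def chg : MvPolynomial (Fin 2) ℂ ≃ₐ[ℂ] MvPolynomial (Fin 2) ℂ :=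
  AlgEquiv.ofAlgHom (aeval ![X 0, X 0 + X 1 - 1]) (aeval ![X 0, X 1 - X 0 + 1])
    (by
      ext i
      fin_cases i
      · simp
      · simp
        ring)
    (by
      ext i
      fin_cases i
      · simp
      · simp
        ring)

theorem prime_third : Prime (X 0 + X 1 - 1 : MvPolynomial (Fin 2) ℂ) := by
  have h : chg (X 1) = X 0 + X 1 - 1 := by
    simp [chg]
  rw [← h]
  exact (MulEquiv.prime_iff (chg : MvPolynomial (Fin 2) ℂ ≃* MvPolynomial (Fin 2) ℂ)).mpr X_prime

variable {R : Type} [CommRing R] [Algebra (MvPolynomial (Fin 2) ℂ) R]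
      (hR : Hens2.IsPairHenselization (MvPolynomial (Fin 2) ℂ)
      (Ideal.span {MvPolynomial.X 0 * MvPolynomial.X 1 * (MvPolynomial.X 0 + MvPolynomial.X 1 - 1)}) R)

include hR

theorem isPrime_span (p : MvPolynomial (Fin 2) ℂ) (hp : Prime p)
    (hd : p ∣ X 0 * X 1 * (X 0 + X 1 - 1)) :
    (Ideal.span {algebraMap (MvPolynomial (Fin 2) ℂ) R p}).IsPrime := by
  have : (Ideal.span {p}).IsPrime := (Ideal.span_singleton_prime hp.ne_zero).mpr hp
  have h := (NormHens.isPrime_map hR (Ideal.span {p}) (by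
    rw [Ideal.span_singleton_le_iff_mem, Ideal.mem_span_singleton]; exact hd)).1
  rwa [Ideal.map_span, Set.image_singleton] at h

theorem exists_prime (c : Fin 2 → ℂ) (hc : eval c (X 0 * X 1 * (X 0 + X 1 - 1) : MvPolynomial (Fin 2) ℂ) = 0) :
    ∃ q : Ideal R, q.IsPrime ∧ ∀ p : MvPolynomial (Fin 2) ℂ, eval c p = 0 → algebraMap _ R p ∈ q := by
  have : (RingHom.ker (eval c : MvPolynomial (Fin 2) ℂ →+* ℂ)).IsPrime := RingHom.ker_isPrime _
  refine ⟨_, (NormHens.isPrime_map hR (RingHom.ker (eval c)) (by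
    rw [Ideal.span_singleton_le_iff_mem]; exact hc)).1, fun p hp => Ideal.mem_map_of_mem _ hp⟩

end K75.Triangle
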